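import Cfsg.Agent.H556.OmMono
import Mathlib.RepresentationTheory.Basic
import Mathlib.Tactic.LinearCombination

/-!
# Eight-dimensional orthogonal groups with a normal 2-subgroup, linear part (helper574)

`H` acts faithfully on the 8-dimensional orthogonal space `V`, contains the even sign changes of an orthonormal frame and
a transitive group of permutations of it, and the elements `y i` (order 3 on the plane `⟨B i, B' i⟩`, trivial on the other
planes) and `w` (permuting three of the planes).  If `H` has a normal subgroup `A` with squares and commutators `±1`,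
`A ≠ ±1`, then `H` permutes the four planes.
-/

set_option autoImplicit false
set_option linter.unusedSectionVars false

namespace Cfsg.Agent.H574.RV.Oct

open Module Cfsg.Agent.H556.Om

variable {F : Type*} [Field F] {V : Type*} [AddCommGroup V] [Module F V] {H : Type*} [Group H]

theorem rm (ρ : Representation F H V) (g h : H) (v : V) : ρ (g * h) v = ρ g (ρ h v) := by
  rw [map_mul]; rfl

theorem r1 (ρ : Representation F H V) (v : V) : ρ 1 v = v := by
  rw [map_one]; rfl

theorem ri (ρ : Representation F H V) (g : H) (v : V) : ρ g (ρ g⁻¹ v) = v := by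
  rw [← rm, mul_inv_cancel, r1]

theorem ri' (ρ : Representation F H V) (g : H) (v : V) : ρ g⁻¹ (ρ g v) = v := by
  rw [← rm, inv_mul_cancel, r1]

/-- the cyclic permutation of the planes -/
def tau : Fin 4 → Fin 4 := ![1, 2, 0, 3]

/-- the configuration -/
structure Conf (ρ : Representation F H V) (f : V →ₗ[F] V →ₗ[F] F) {J : Type*} [Fintype J] [DecidableEq J] (e : J → V)
    (B B' : Fin 4 → V) (y : Fin 4 → H) (w : H) : Prop where
  two : (2 : F) ≠ 0
  three : (3 : F) ≠ 0
  dim : finrank F V = 8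
  inj : Function.Injective ρ
  symm : ∀ u v, f u v = f v u
  nd : ∀ v, (∀ u, f u v = 0) → v = 0
  iso : ∀ g u v, f (ρ g u) (ρ g v) = f u v
  frame : Frame f e
  span : ∀ v, (∀ j, f (e j) v = 0) → v = 0
  idx : ∀ i : J, ∃ j k : J, i ≠ j ∧ i ≠ k ∧ j ≠ k
  sg : ∀ i j, i ≠ j → ∃ t : H, ∀ v, ρ t v = v - f (e i) v • e i - f (e j) v • e j
  tr : ∀ i j, ∃ g : H, ρ g (e i) = e j
  ne : Nonempty J
  BB : ∀ i, f (B i) (B i) = 2
  BC : ∀ i, f (B i) (B' i) = -1
  CC : ∀ i, f (B' i) (B' i) = 2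
  oBB : ∀ i j, i ≠ j → f (B i) (B j) = 0
  oBC : ∀ i j, i ≠ j → f (B i) (B' j) = 0
  oCC : ∀ i j, i ≠ j → f (B' i) (B' j) = 0
  Bspan : ∀ v, ∃ α β : Fin 4 → F, v = ∑ i, (α i • B i + β i • B' i)
  yv : ∀ i v, ρ (y i) v = v - (f (B i) v + f (B' i) v) • B i - f (B' i) v • B' i
  wB : ∀ i, ρ w (B i) = B (tau i)
  wC : ∀ i, ρ w (B' i) = B' (tau i)

/-- the planes -/
def U (B B' : Fin 4 → V) (i : Fin 4) : Submodule F V := Submodule.span F {B i, B' i}

namespace Conf

variable {ρ : Representation F H V} {f : V →ₗ[F] V →ₗ[F] F} {J : Type*} [Fintype J] [DecidableEq J] {e : J → V}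
  {B B' : Fin 4 → V} {y : Fin 4 → H} {w : H} (h : Conf ρ f e B B' y w)

include h

theorem fin : FiniteDimensional F V := FiniteDimensional.of_finrank_pos (by rw [h.dim]; norm_num)

theorem neg_eq {v : V} (hv : v = -v) : v = 0 := by
  have h1 : (2 : F) • v = 0 := by
    rw [two_smul]
    nth_rewrite 1 [hv]
    exact neg_add_cancel v
  exact (smul_eq_zero.mp h1).resolve_left h.two

/-- few linear conditions have a common solution -/
theorem exists_vec {n : ℕ} (hn : n < 8) (g : Fin n → V →ₗ[F] F) : ∃ v, v ≠ 0 ∧ ∀ k, g k v = 0 := by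
  have := h.fin
  have h1 : finrank F (Fin n → F) < finrank F V := by
    rw [h.dim, finrank_fin_fun]
    exact hn
  have h3 := LinearMap.ker_ne_bot_of_finrank_lt (f := LinearMap.pi g) h1
  obtain ⟨v, hv, hv0⟩ := Submodule.exists_mem_ne_zero_of_ne_bot h3
  exact ⟨v, hv0, fun k => congrFun (LinearMap.mem_ker.mp hv) k⟩

theorem CB (i : Fin 4) : f (B' i) (B i) = -1 := by rw [h.symm, h.BC]

theorem oCB (i j : Fin 4) (hij : i ≠ j) : f (B' i) (B j) = 0 := by rw [h.symm, h.oBC j i hij.symm]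

theorem fB (α β : Fin 4 → F) (i : Fin 4) : f (B i) (∑ j, (α j • B j + β j • B' j)) = 2 * α i - β i := by
  rw [map_sum, Finset.sum_eq_single i]
  · rw [map_add, map_smul, map_smul, h.BB, h.BC, smul_eq_mul, smul_eq_mul]
    ring
  · intro j _ hj
    rw [map_add, map_smul, map_smul, h.oBB i j hj.symm, h.oBC i j hj.symm, smul_zero, smul_zero, add_zero]
  · intro hi
    exact absurd (Finset.mem_univ i) hi

theorem fC (α β : Fin 4 → F) (i : Fin 4) : f (B' i) (∑ j, (α j • B j + β j • B' j)) = 2 * β i - α i := by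
  rw [map_sum, Finset.sum_eq_single i]
  · rw [map_add, map_smul, map_smul, h.CC, h.CB, smul_eq_mul, smul_eq_mul]
    ring
  · intro j _ hj
    rw [map_add, map_smul, map_smul, h.oCB i j hj.symm, h.oCC i j hj.symm, smul_zero, smul_zero, add_zero]
  · intro hi
    exact absurd (Finset.mem_univ i) hi

theorem yB (i : Fin 4) : ρ (y i) (B i) = B' i := by
  rw [h.yv, h.BB, h.CB]
  module

theorem yC (i : Fin 4) : ρ (y i) (B' i) = -B i - B' i := by
  rw [h.yv, h.BC, h.CC]
  module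

theorem yBo (i j : Fin 4) (hij : i ≠ j) : ρ (y i) (B j) = B j := by
  rw [h.yv, h.oBB i j hij, h.oCB i j hij]
  module

theorem yCo (i j : Fin 4) (hij : i ≠ j) : ρ (y i) (B' j) = B' j := by
  rw [h.yv, h.oBC i j hij, h.oCC i j hij]
  module

theorem y_fix {i : Fin 4} {v : V} (h1 : f (B i) v = 0) (h3 : f (B' i) v = 0) : ρ (y i) v = v := by
  rw [h.yv, h1, h3]
  module

/-- linear maps agreeing on the basis -/
theorem ext_B {V' : Type*} [AddCommGroup V'] [Module F V'] {φ ψ : V →ₗ[F] V'} (h1 : ∀ i, φ (B i) = ψ (B i))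
    (h3 : ∀ i, φ (B' i) = ψ (B' i)) : φ = ψ := by
  apply LinearMap.ext
  intro v
  obtain ⟨α, β, rfl⟩ := h.Bspan v
  rw [map_sum, map_sum]
  refine Finset.sum_congr rfl fun i _ => ?_
  rw [map_add, map_add, map_smul, map_smul, map_smul, map_smul, h1, h3]

theorem eq_of {a b : H} (h1 : ∀ i, ρ a (B i) = ρ b (B i)) (h3 : ∀ i, ρ a (B' i) = ρ b (B' i)) : a = b :=
  h.inj (h.ext_B h1 h3)

theorem y_cube (i : Fin 4) : y i * y i * y i = 1 := by
  refine h.eq_of (fun j => ?_) fun j => ?_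
  · rw [rm, rm, r1]
    by_cases hij : i = j
    · subst hij
      rw [h.yB, h.yC, map_sub, map_neg, h.yB, h.yC]
      abel
    · rw [h.yBo i j hij, h.yBo i j hij, h.yBo i j hij]
  · rw [rm, rm, r1]
    by_cases hij : i = j
    · subst hij
      rw [h.yC, map_sub, map_neg, h.yB, h.yC, map_sub, map_neg, map_sub, map_neg, h.yB, h.yC]
      abel
    · rw [h.yCo i j hij, h.yCo i j hij, h.yCo i j hij]

/-! ### Irreducibility -/

theorem irr {W : Submodule F V} (hW : ∀ g, ∀ v ∈ W, ρ g v ∈ W) {v : V} (hv : v ∈ W) (hv0 : v ≠ 0) : W = ⊤ := by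
  have h1 : ∃ i, f (e i) v ≠ 0 := by
    by_contra hcon
    push Not at hcon
    exact hv0 (h.span v hcon)
  obtain ⟨i, hi⟩ := h1
  obtain ⟨j, k, hij, hik, hjk⟩ := h.idx i
  obtain ⟨t, ht⟩ := h.sg i j hij
  obtain ⟨s, hs⟩ := h.sg i k hik
  have h3 : f (e i) v • e i + f (e j) v • e j ∈ W := by
    have := W.sub_mem hv (hW t v hv)
    rw [ht] at this
    convert this using 1
    module
  set v1 := f (e i) v • e i + f (e j) v • e j with hv1
  have h4 : f (e i) v1 = 2 * f (e i) v := by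
    rw [hv1, map_add, map_smul, map_smul, h.frame.self, h.frame.orth i j hij, smul_eq_mul, smul_eq_mul]
    ring
  have h5 : f (e k) v1 = 0 := by
    rw [hv1, map_add, map_smul, map_smul, h.frame.orth k i hik.symm, h.frame.orth k j hjk.symm, smul_zero, smul_zero,
      add_zero]
  have h6 : (2 * f (e i) v) • e i ∈ W := by
    have := W.sub_mem h3 (hW s v1 h3)
    rw [hs, h4, h5] at this
    convert this using 1
    module
  have h7 : e i ∈ W := (W.smul_mem_iff (mul_ne_zero h.two hi)).mp h6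
  have h8 : ∀ l, e l ∈ W := fun l => by
    obtain ⟨g, hg⟩ := h.tr i l
    rw [← hg]
    exact hW g _ h7
  rw [eq_top_iff]
  intro u _
  obtain ⟨c, z, hz, rfl⟩ := exists_decomp h.frame h.two u
  rw [h.span z hz, add_zero]
  exact W.sum_mem fun l _ => W.smul_mem _ (h8 l)

/-! ### Elements of square `-1` -/

theorem no_quat {x : H} (hx : ∀ v, ρ x (ρ x v) = -v)
    (hc : ∀ g : H, (∀ v, ρ (g * x * g⁻¹) v = ρ x v) ∨ (∀ v, ρ (g * x * g⁻¹) v = -ρ x v)) : False := by
  have key : ∀ i j, i ≠ j → ∀ t : H, (∀ v, ρ t v = v - f (e i) v • e i - f (e j) v • e j) → ∀ v,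
      ρ t (ρ x v) = ρ x (ρ t v) := by
    intro i j hij t ht
    rcases hc t with h1 | h1
    · intro v
      have h3 := h1 (ρ t v)
      rw [rm, rm, ri'] at h3
      exact h3
    · exfalso
      obtain ⟨v, hv0, hv⟩ := h.exists_vec (n := 4) (by norm_num)
        ![f (e i), f (e j), (f (e i)).comp (ρ x), (f (e j)).comp (ρ x)]
      have hv1 : f (e i) v = 0 := hv 0
      have hv2 : f (e j) v = 0 := hv 1
      have hv3 : f (e i) (ρ x v) = 0 := hv 2
      have hv4 : f (e j) (ρ x v) = 0 := hv 3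
      have ht1 : ρ t v = v := by rw [ht, hv1, hv2]; module
      have ht2 : ρ t (ρ x v) = ρ x v := by rw [ht, hv3, hv4]; module
      have h3 := h1 (ρ t v)
      rw [rm, rm, ri', ht1, ht2] at h3
      have h4 := h.neg_eq h3
      have h5 : ρ x (ρ x v) = 0 := by rw [h4, map_zero]
      rw [hx] at h5
      exact hv0 (neg_eq_zero.mp h5)
  obtain ⟨i⟩ := h.ne
  obtain ⟨j, k, hij, hik, hjk⟩ := h.idx i
  obtain ⟨t, ht⟩ := h.sg i j hij
  obtain ⟨s, hs⟩ := h.sg i k hik
  have h1 := key i j hij t ht (e i)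
  have h3 := key i k hik s hs (e i)
  have ht1 : ρ t (e i) = -e i := by
    rw [ht, h.frame.self, h.frame.orth j i hij.symm]
    module
  have hs1 : ρ s (e i) = -e i := by
    rw [hs, h.frame.self, h.frame.orth k i hik.symm]
    module
  rw [ht1, map_neg, ht] at h1
  rw [hs1, map_neg, hs] at h3
  set v := ρ x (e i) with hv
  have h4 : f (e j) v = 0 := by
    have h5 := congrArg (f (e j)) h3
    rw [map_sub, map_sub, map_smul, map_smul, map_neg, h.frame.orth j i hij.symm, h.frame.orth j k hjk, smul_zero,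
      smul_zero, sub_zero, sub_zero] at h5
    have h6 : (2 : F) * f (e j) v = 0 := by linear_combination h5
    exact (mul_eq_zero.mp h6).resolve_left h.two
  rw [h4, zero_smul, sub_zero] at h1
  have h5 : v = ((2 : F)⁻¹ * f (e i) v) • e i := by
    have h6 : (2 : F) • v = f (e i) v • e i := by
      have h7 : v = f (e i) v • e i - v := by
        rw [eq_sub_iff_add_eq]
        have := sub_eq_iff_eq_add.mp h1
        nth_rewrite 1 [this]
        abel
      rw [two_smul]
      nth_rewrite 1 [h7]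
      abel
    rw [mul_smul, ← h6, smul_smul, inv_mul_cancel₀ h.two, one_smul]
  set c := (2 : F)⁻¹ * f (e i) v with hc'
  have h6 : c * c = 1 := by
    have h7 : f v v = 2 := by rw [hv, h.iso, h.frame.self]
    rw [h5, map_smul, map_smul, LinearMap.smul_apply, h.frame.self, smul_eq_mul, smul_eq_mul] at h7
    have h8 : (2 : F) * (c * c - 1) = 0 := by linear_combination h7
    have := (mul_eq_zero.mp h8).resolve_left h.two
    linear_combination this
  have h7 := hx (e i)
  rw [← hv, h5, map_smul, ← hv, h5, smul_smul, h6, one_smul] at h7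
  have h8 := h.neg_eq h7
  have h9 := h.frame.self i
  rw [h8, map_zero] at h9
  exact h.two h9.symm

/-! ### The extraspecial case -/

/-- elements commuting with `y i` on the plane `U i` -/
theorem comm_form {g : H} {i : Fin 4} (hg : g * y i = y i * g) : ∃ α β : F, ρ g (B i) = α • B i + β • B' i ∧
    ρ g (B' i) = α • B' i + β • (-B i - B' i) := by
  set z : V := (-(3 : F)⁻¹) • (2 • B i + B' i) with hz
  have h3 := h.three
  have h1 : ρ (y i) z - z = B i := by
    rw [hz, map_smul, map_add, map_nsmul, h.yB, h.yC]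
    have : (-(3 : F)⁻¹) • (2 • B' i + (-B i - B' i)) - (-(3 : F)⁻¹) • (2 • B i + B' i) = ((3 : F)⁻¹ * 3) • B i := by
      module
    rw [this, inv_mul_cancel₀ h3, one_smul]
  have h4 : ρ g (B i) = ρ (y i) (ρ g z) - ρ g z := by
    rw [← rm, ← hg, rm, ← map_sub, h1]
  have h5 : ρ g (B i) = (-(f (B i) (ρ g z) + f (B' i) (ρ g z))) • B i + (-f (B' i) (ρ g z)) • B' i := by
    rw [h4, h.yv]
    module
  obtain ⟨α, β, h5⟩ : ∃ α β : F, ρ g (B i) = α • B i + β • B' i := ⟨_, _, h5⟩
  refine ⟨α, β, h5, ?_⟩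
  have h6 : ρ g (B' i) = ρ (y i) (ρ g (B i)) := by rw [← h.yB, ← rm, hg, rm]
  rw [h6, h5, map_add, map_smul, map_smul, h.yB, h.yC]

theorem B_ne (i : Fin 4) : B i ≠ 0 := by
  intro h1
  have := h.BB i
  rw [h1, map_zero] at this
  exact h.two this.symm

theorem no_extra {A : Subgroup H} (hA : A.Normal) (hnc : ∀ x ∈ A, (∀ v, ρ x v = v) ∨ (∀ v, ρ x v = -v) ∨
    ∃ u ∈ A, ∀ v, ρ u (ρ x v) = -ρ x (ρ u v)) {x₀ : H} (hx₀ : x₀ ∈ A) (h1 : ¬ ∀ v, ρ x₀ v = v)
    (h2 : ¬ ∀ v, ρ x₀ v = -v) : False := by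
  have hy3 := h.y_cube 0
  set Y := y 0 with hY
  -- `Y` centralises `A`
  have key : ∀ x ∈ A, x * Y = Y * x := by
    intro x hx
    obtain ⟨g, hg⟩ : ∃ g, g = x * Y * x⁻¹ * Y⁻¹ := ⟨_, rfl⟩
    have hgA : g ∈ A := by
      have h3 : g = x * (Y * x⁻¹ * Y⁻¹) := by rw [hg]; group
      rw [h3]
      exact A.mul_mem hx (hA.conj_mem _ (A.inv_mem hx) Y)
    have hfix : ∀ v, f (B 0) v = 0 → f (B' 0) v = 0 → f (B 0) (ρ x⁻¹ v) = 0 → f (B' 0) (ρ x⁻¹ v) = 0 → ρ g v = v := by
      intro v a b c d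
      have h3 : ρ Y v = v := h.y_fix a b
      have h4 : ρ Y⁻¹ v = v := by
        nth_rewrite 1 [← h3]
        rw [ri']
      rw [hg, rm, rm, rm, h4, h.y_fix c d, ri]
    have hg1 : g = 1 := by
      rcases hnc g hgA with h3 | h3 | ⟨u, hu, h3⟩
      · apply h.inj
        apply LinearMap.ext
        intro v
        rw [h3, r1]
      · exfalso
        obtain ⟨v, hv0, hv⟩ := h.exists_vec (n := 4) (by norm_num)
          ![f (B 0), f (B' 0), (f (B 0)).comp (ρ x⁻¹), (f (B' 0)).comp (ρ x⁻¹)]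
        have h4 := hfix v (hv 0) (hv 1) (hv 2) (hv 3)
        rw [h3] at h4
        exact hv0 (h.neg_eq h4.symm)
      · exfalso
        obtain ⟨v, hv0, hv⟩ := h.exists_vec (n := 6) (by norm_num)
          ![f (B 0), f (B' 0), (f (B 0)).comp (ρ u⁻¹), (f (B' 0)).comp (ρ u⁻¹),
            (f (B 0)).comp (ρ (x⁻¹ * u⁻¹)), (f (B' 0)).comp (ρ (x⁻¹ * u⁻¹))]
        have hv0' : f (B 0) v = 0 := hv 0
        have hv1' : f (B' 0) v = 0 := hv 1
        have hv4' : f (B 0) (ρ (x⁻¹ * u⁻¹) v) = 0 := hv 4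
        have hv5' : f (B' 0) (ρ (x⁻¹ * u⁻¹) v) = 0 := hv 5
        rw [rm] at hv4' hv5'
        have h4 : ρ g (ρ u⁻¹ v) = ρ u⁻¹ v := hfix _ (hv 2) (hv 3) hv4' hv5'
        have h5 : ρ g v = -v := by
          have h6 := h3 (ρ u⁻¹ v)
          rw [h4, ri] at h6
          exact (neg_eq_iff_eq_neg.mpr h6).symm
        have h6 : ρ Y v = v := h.y_fix hv0' hv1'
        have h7 : ρ Y⁻¹ v = v := by
          nth_rewrite 1 [← h6]
          rw [ri']
        have h8 : g * (Y * g * Y⁻¹) * (Y * (Y * g * Y⁻¹) * Y⁻¹) = 1 := by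
          have h9 : g * (Y * g * Y⁻¹) * (Y * (Y * g * Y⁻¹) * Y⁻¹) = x * (Y * Y * Y) * x⁻¹ * (Y * Y * Y)⁻¹ := by
            rw [hg]; group
          rw [h9, hy3]
          group
        have h10 : ρ (Y * g * Y⁻¹) v = -v := by rw [rm, rm, h7, h5, map_neg, h6]
        have h11 : ρ (Y * (Y * g * Y⁻¹) * Y⁻¹) v = -v := by rw [rm, rm, h7, h10, map_neg, h6]
        have h9 := r1 ρ v
        rw [← h8, rm, rm, h11, map_neg, h10, neg_neg, h5] at h9
        exact hv0 (h.neg_eq h9.symm)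
    have h3 : x * Y = g * (Y * x) := by rw [hg]; group
    rw [h3, hg1, one_mul]
  rcases hnc x₀ hx₀ with h3 | h3 | ⟨u, hu, h3⟩
  · exact h1 h3
  · exact h2 h3
  · obtain ⟨α, β, ha, hb⟩ := h.comm_form (key x₀ hx₀)
    obtain ⟨γ, δ, hc, hd⟩ := h.comm_form (key u hu)
    have h4 := h3 (B 0)
    have h5 : ρ u (ρ x₀ (B 0)) = ρ x₀ (ρ u (B 0)) := by
      rw [ha, hc, map_add, map_smul, map_smul, map_add, map_smul, map_smul, ha, hb, hc, hd]
      module
    rw [← h5] at h4
    have h6 := h.neg_eq h4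
    apply h.B_ne 0
    have h7 : ρ (u * x₀) (B 0) = 0 := by rw [rm, h6]
    rw [← ri' ρ (u * x₀) (B 0), h7, map_zero]

end Conf

end Cfsg.Agent.H574.RV.Oct
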