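import Cfsg.Agent.H574.RV.OctPerm

/-!
# Eight-dimensional orthogonal groups with a normal 2-subgroup, III (helper574): the four planes
-/

set_option autoImplicit false
set_option linter.unusedSectionVars false

namespace Cfsg.Agent.H574.RV.Oct

open Module Cfsg.Agent.H556.Om

variable {F : Type*} [Field F] {V : Type*} [AddCommGroup V] [Module F V] {H : Type*} [Group H]

namespace Conf

variable {ρ : Representation F H V} {f : V →ₗ[F] V →ₗ[F] F} {J : Type*} [Fintype J] [DecidableEq J] {e : J → V}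
  {B B' : Fin 4 → V} {y : Fin 4 → H} {w : H} (h : Conf ρ f e B B' y w)

/-- the situation: an elementary abelian normal subgroup with a common eigenvector -/
structure Sit (ρ : Representation F H V) (C : Subgroup H) (χ : H → F) (v₀ : V) : Prop where
  nor : C.Normal
  sq : ∀ x ∈ C, ∀ v, ρ x (ρ x v) = v
  mem : v₀ ∈ Eg ρ C χ
  ne : v₀ ≠ 0

include h

theorem dd_ne {C : Subgroup H} {χ : H → F} {v₀ : V} (s : Sit ρ C χ v₀)
    (hd : ∀ g, ∀ v ∈ Eg ρ C (cj χ g), ρ (dd y w) v = v) : False := by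
  have h1 : ρ (dd y w) = 1 := h.ext_E s.nor s.mem s.ne fun g v hv => by
    rw [hd g v hv, Module.End.one_apply]
  have h3 := (h.dB 0 (by decide)).1
  rw [h1, Module.End.one_apply] at h3
  have h4 := h.BB 0
  nth_rewrite 2 [h3] at h4
  rw [h.BC] at h4
  exact h.three (by linear_combination -h4)

/-- the eigenspaces are lines if some `y i` moves one of them -/
theorem line {C : Subgroup H} {χ : H → F} {v₀ : V} (s : Sit ρ C χ v₀) {g : H} {i : Fin 4}
    (hi : y i ∉ stW ρ (Eg ρ C (cj χ g))) {v u : V} (hv : v ∈ Eg ρ C (cj χ g)) (hv0 : v ≠ 0)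
    (hu : u ∈ Eg ρ C (cj χ g)) : ∃ c : F, u = c • v := by
  obtain ⟨a, ha⟩ : ∃ a, a = y i := ⟨_, rfl⟩
  have ha3 : a * a * a = 1 := by rw [ha]; exact h.y_cube i
  rw [← ha] at hi
  set W := Eg ρ C (cj χ g) with hW
  have hW1 : W ≠ Eg ρ C (cj χ (a * g)) := fun heq => hi (stW_of_eq s.nor heq a rfl)
  have hW2 : W ≠ Eg ρ C (cj χ (a * a * g)) := by
    intro heq
    apply hi
    have h1 : a * a ∈ stW ρ W := stW_of_eq s.nor heq (a * a) rfl
    have h3 : a = (a * a) * (a * a) := by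
      calc a = (a * a * a) * a := by rw [ha3, one_mul]
        _ = (a * a) * (a * a) := by group
    rw [h3]
    exact Subgroup.mul_mem _ h1 h1
  have hW3 : Eg ρ C (cj χ (a * g)) ≠ Eg ρ C (cj χ (a * a * g)) := by
    intro heq
    apply hi
    have h1 : a ∈ stW ρ (Eg ρ C (cj χ (a * g))) := stW_of_eq s.nor heq a (by group)
    intro z
    have h3 : ∀ z, z ∈ W ↔ ρ a z ∈ Eg ρ C (cj χ (a * g)) := by
      intro z
      constructor
      · intro hz
        have := mem_cj s.nor a hz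
        rwa [cj_cj] at this
      · intro hz
        rw [← cj_cj] at hz
        exact mem_of_cj s.nor a hz
    rw [h3, h3, ← h1 (ρ a z)]
  have hav : ∀ z ∈ W, ρ a z ∈ Eg ρ C (cj χ (a * g)) := by
    intro z hz
    have := mem_cj s.nor a hz
    rwa [cj_cj] at this
  have haav : ∀ z ∈ W, ρ a (ρ a z) ∈ Eg ρ C (cj χ (a * a * g)) := by
    intro z hz
    have := mem_cj s.nor a (hav z hz)
    rwa [cj_cj, ← mul_assoc] at this
  obtain ⟨c, hc0, hc1, hc2⟩ := exists_comb ![f (B i) v, f (B i) (ρ a v), f (B i) u]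
    ![f (B' i) v, f (B' i) (ρ a v), f (B' i) u]
  have hc1' : c 0 * f (B i) v + c 1 * f (B i) (ρ a v) + c 2 * f (B i) u = 0 := hc1
  have hc2' : c 0 * f (B' i) v + c 1 * f (B' i) (ρ a v) + c 2 * f (B' i) u = 0 := hc2
  set z := c 0 • v + c 1 • ρ a v + c 2 • u with hz
  have hz1 : ρ a z = z := by
    rw [ha]
    apply h.y_fix
    · rw [hz, map_add, map_add, map_smul, map_smul, map_smul]
      exact hc1'
    · rw [hz, map_add, map_add, map_smul, map_smul, map_smul]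
      exact hc2'
  rw [hz, map_add, map_add, map_smul, map_smul, map_smul] at hz1
  -- `q` is zero
  have hor : ∀ {χ₁ χ₂ : H → F} {p q : V}, p ∈ Eg ρ C χ₁ → q ∈ Eg ρ C χ₂ → Eg ρ C χ₁ ≠ Eg ρ C χ₂ → f p q = 0 := by
    intro χ₁ χ₂ p q hp hq hne
    by_contra hcon
    exact hne (Eg_congr (h.ortho s.sq hp hq hcon))
  have hq : c 0 • v + c 2 • u = 0 := by
    have hqW : c 0 • v + c 2 • u ∈ W := W.add_mem (W.smul_mem _ hv) (W.smul_mem _ hu)
    refine h.zero_of_orth s.nor s.mem s.ne fun k t ht => ?_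
    by_cases hk : Eg ρ C (cj χ k) = W
    · have h4 : c 0 • v + c 2 • u = c 0 • ρ a v + c 1 • ρ a (ρ a v) + c 2 • ρ a u - c 1 • ρ a v := by
        rw [hz1]; abel
      rw [h4, map_sub, map_add, map_add, map_smul, map_smul, map_smul, map_smul,
        hor ht (hav v hv) (by rw [hk]; exact hW1), hor ht (haav v hv) (by rw [hk]; exact hW2),
        hor ht (hav u hu) (by rw [hk]; exact hW1)]
      simp
    · exact hor ht hqW hk
  have hc1z : c 1 = 0 := by
    have h4 : c 1 • ρ a v = 0 := by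
      refine h.zero_of_orth s.nor s.mem s.ne fun k t ht => ?_
      by_cases hk : Eg ρ C (cj χ k) = Eg ρ C (cj χ (a * g))
      · have h5 : c 1 • ρ a v = c 1 • ρ a (ρ a v) + ρ a (c 0 • v + c 2 • u) - (c 0 • v + c 2 • u) := by
          rw [map_add, map_smul, map_smul]
          have : c 1 • ρ a v = (c 0 • v + c 1 • ρ a v + c 2 • u) - (c 0 • v + c 2 • u) := by abel
          rw [this, ← hz1]
          abel
        rw [h5, hq, map_zero, add_zero, sub_zero, map_smul, hor ht (haav v hv) (by rw [hk]; exact hW3), smul_zero]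
      · exact hor ht ((Eg ρ C (cj χ (a * g))).smul_mem _ (hav v hv)) hk
    rcases smul_eq_zero.mp h4 with h5 | h5
    · exact h5
    · exfalso
      apply hv0
      rw [← ri' ρ a v, h5, map_zero]
  have hc2z : c 2 ≠ 0 := by
    intro h4
    rw [h4, zero_smul, add_zero] at hq
    rcases smul_eq_zero.mp hq with h5 | h5
    · apply hc0
      funext k
      fin_cases k
      · exact h5
      · exact hc1z
      · exact h4
    · exact hv0 h5
  refine ⟨-((c 2)⁻¹ * c 0), ?_⟩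
  have h4 : c 2 • u = -(c 0 • v) := by rw [eq_neg_iff_add_eq_zero, add_comm]; exact hq
  calc u = (c 2)⁻¹ • (c 2 • u) := by rw [smul_smul, inv_mul_cancel₀ hc2z, one_smul]
    _ = -((c 2)⁻¹ * c 0) • v := by rw [h4, smul_neg, smul_smul, neg_smul]

/-- the `y i` preserve the eigenspaces -/
theorem y_mem {C : Subgroup H} {χ : H → F} {v₀ : V} (s : Sit ρ C χ v₀) (g : H) (i : Fin 4) :
    y i ∈ stW ρ (Eg ρ C (cj χ g)) := by
  by_contra hcon
  refine h.dd_ne s fun k v hv => ?_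
  by_cases hv0 : v = 0
  · rw [hv0, map_zero]
  -- all eigenspaces are lines
  have hline : ∀ u ∈ Eg ρ C (cj χ k), ∃ c : F, u = c • v := by
    intro u hu
    have h1 : ∀ z ∈ Eg ρ C (cj χ k), ρ (g * k⁻¹) z ∈ Eg ρ C (cj χ g) := by
      intro z hz
      have := mem_cj s.nor (g * k⁻¹) hz
      rwa [cj_cj, inv_mul_cancel_right] at this
    obtain ⟨c, hc⟩ := h.line s hcon (h1 v hv) (by
      intro h3
      apply hv0
      rw [← ri' ρ (g * k⁻¹) v, h3, map_zero]) (h1 u hu)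
    refine ⟨c, ?_⟩
    rw [← ri' ρ (g * k⁻¹) u, hc, map_smul, ri']
  have hD := h.dd_mem s.nor s.sq s.mem s.ne k
  obtain ⟨c, hc⟩ := hline _ ((hD v).mp hv)
  have hvv : f v v ≠ 0 := by
    intro h1
    apply hv0
    refine h.zero_of_orth s.nor s.mem s.ne fun l t ht => ?_
    by_contra hne
    have h3 : Eg ρ C (cj χ l) = Eg ρ C (cj χ k) := Eg_congr (h.ortho s.sq ht hv hne)
    rw [h3] at ht
    obtain ⟨d, hd⟩ := hline t ht
    apply hne
    rw [hd, map_smul, LinearMap.smul_apply, h1, smul_zero]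
  have hc2 : c * c = 1 := by
    have h1 := h.iso (dd y w) v v
    rw [hc, map_smul, map_smul, LinearMap.smul_apply, smul_eq_mul, smul_eq_mul] at h1
    have h3 : (c * c - 1) * f v v = 0 := by linear_combination h1
    have := (mul_eq_zero.mp h3).resolve_right hvv
    linear_combination this
  have hc3 : c * c * c = 1 := by
    have h1 := r1 ρ v
    rw [← h.d_cube, rm, rm, hc, map_smul, hc, map_smul, map_smul, hc, smul_smul, smul_smul] at h1
    have h3 : (c * c * c - 1) • v = 0 := by rw [sub_smul, one_smul, h1, sub_self]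
    have := (smul_eq_zero.mp h3).resolve_right hv0
    linear_combination this
  rw [hc2, one_mul] at hc3
  rw [hc, hc3, one_smul]

/-- the `y i` centralise `C` -/
theorem y_comm {C : Subgroup H} {χ : H → F} {v₀ : V} (s : Sit ρ C χ v₀) {x : H} (hx : x ∈ C) (i : Fin 4) :
    x * y i = y i * x := by
  apply h.inj
  refine h.ext_E s.nor s.mem s.ne fun g v hv => ?_
  have h1 := (h.y_mem s g i v).mp hv
  rw [rm, rm, h1 x hx, hv x hx, map_smul]

/-- `C` acts by scalars on the planes -/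
theorem scal {C : Subgroup H} {χ : H → F} {v₀ : V} (s : Sit ρ C χ v₀) {x : H} (hx : x ∈ C) (i : Fin 4) :
    ∃ α : F, ρ x (B i) = α • B i ∧ ρ x (B' i) = α • B' i := by
  obtain ⟨α, β, ha, hb⟩ := h.comm_form (h.y_comm s hx i)
  have h1 := h.iso x (ρ x (B i)) (B' i)
  rw [s.sq x hx, hb, ha, map_add, map_add, map_smul, map_smul, map_smul, map_smul, map_sub, map_neg,
    LinearMap.add_apply, LinearMap.smul_apply, LinearMap.smul_apply, h.BB, h.BC, h.CC] at h1
  simp only [smul_eq_mul] at h1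
  have h3 : (3 : F) * β = 0 := by linear_combination -h1
  have h4 : β = 0 := (mul_eq_zero.mp h3).resolve_left h.three
  refine ⟨α, ?_, ?_⟩
  · rw [ha, h4, zero_smul, add_zero]
  · rw [hb, h4, zero_smul, add_zero]

/-- the characters of the planes -/
def psi (ρ : Representation F H V) (f : V →ₗ[F] V →ₗ[F] F) (B : Fin 4 → V) (i : Fin 4) (x : H) : F :=
  (2 : F)⁻¹ * f (B i) (ρ x (B i))

theorem mem_psi {C : Subgroup H} {χ : H → F} {v₀ : V} (s : Sit ρ C χ v₀) (i : Fin 4) :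
    B i ∈ Eg ρ C (psi ρ f B i) ∧ B' i ∈ Eg ρ C (psi ρ f B i) := by
  have key : ∀ x ∈ C, ρ x (B i) = psi ρ f B i x • B i ∧ ρ x (B' i) = psi ρ f B i x • B' i := by
    intro x hx
    obtain ⟨α, ha, hb⟩ := h.scal s hx i
    have h1 : psi ρ f B i x = α := by
      unfold psi
      rw [ha, map_smul, h.BB, smul_eq_mul, mul_comm α, ← mul_assoc, inv_mul_cancel₀ h.two, one_mul]
    rw [h1]
    exact ⟨ha, hb⟩
  exact ⟨fun x hx => (key x hx).1, fun x hx => (key x hx).2⟩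

theorem exists_psi {C : Subgroup H} {χ : H → F} {v₀ : V} (s : Sit ρ C χ v₀) (i : Fin 4) :
    ∃ g, Eg ρ C (psi ρ f B i) = Eg ρ C (cj χ g) := by
  by_contra hcon
  push Not at hcon
  apply h.B_ne i
  refine h.zero_of_orth s.nor s.mem s.ne fun g u hu => ?_
  by_contra hne
  exact hcon g (Eg_congr fun x hx => ((h.ortho s.sq hu (h.mem_psi s i).1 hne) x hx).symm)

/-- characters of nonzero vectors -/
theorem char_eq {C : Subgroup H} {χ χ' : H → F} {v : V} (hv : v ∈ Eg ρ C χ) (hv' : v ∈ Eg ρ C χ') (hv0 : v ≠ 0) :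
    ∀ x ∈ C, χ x = χ' x := by
  intro x hx
  have h1 := hv x hx
  rw [hv' x hx] at h1
  have h3 : (χ x - χ' x) • v = 0 := by rw [sub_smul, h1, sub_self]
  exact sub_eq_zero.mp ((smul_eq_zero.mp h3).resolve_right hv0)

theorem C_ne (i : Fin 4) : B' i ≠ 0 := by
  intro h1
  have := h.CC i
  rw [h1, map_zero] at this
  exact h.two this.symm

/-- the characters of the planes are distinct -/
theorem psi_ne {C : Subgroup H} {χ : H → F} {v₀ : V} (s : Sit ρ C χ v₀) {x₀ : H} (hx₀ : x₀ ∈ C)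
    (h1 : ¬ ∀ v, ρ x₀ v = v) (h2 : ¬ ∀ v, ρ x₀ v = -v) {i j : Fin 4} (hij : i ≠ j) :
    ¬ ∀ x ∈ C, psi ρ f B i x = psi ρ f B j x := by
  have hw : ∀ i j, (∀ x ∈ C, psi ρ f B i x = psi ρ f B j x) →
      ∀ x ∈ C, psi ρ f B (tau i) x = psi ρ f B (tau j) x := by
    intro i j hR x hx
    have h3 : ∀ k, ∀ x ∈ C, cj (psi ρ f B k) w x = psi ρ f B (tau k) x := by
      intro k
      have h4 := mem_cj s.nor w (h.mem_psi s k).1
      rw [h.wB] at h4
      exact h.char_eq h4 (h.mem_psi s (tau k)).1 (h.B_ne _)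
    rw [← h3 i x hx, ← h3 j x hx]
    have h4 : w⁻¹ * x * w ∈ C := by
      have := s.nor.conj_mem x hx w⁻¹
      rwa [inv_inv] at this
    exact hR _ h4
  have hall : ¬ ((∀ x ∈ C, psi ρ f B 0 x = psi ρ f B 1 x) ∧ (∀ x ∈ C, psi ρ f B 1 x = psi ρ f B 2 x) ∧
      (∀ x ∈ C, psi ρ f B 0 x = psi ρ f B 3 x)) := by
    rintro ⟨ha, hb, hc⟩
    have h3 : ∀ k, psi ρ f B k x₀ = psi ρ f B 0 x₀ := by
      intro k
      have hk : k = 0 ∨ k = 1 ∨ k = 2 ∨ k = 3 := by revert k; decide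
      rcases hk with rfl | rfl | rfl | rfl
      · rfl
      · exact (ha x₀ hx₀).symm
      · rw [← hb x₀ hx₀, ← ha x₀ hx₀]
      · exact (hc x₀ hx₀).symm
    have h4 : ∀ v, ρ x₀ v = psi ρ f B 0 x₀ • v := by
      have : ρ x₀ = psi ρ f B 0 x₀ • (1 : V →ₗ[F] V) := by
        refine h.ext_B (fun k => ?_) fun k => ?_
        · rw [(h.mem_psi s k).1 x₀ hx₀, h3 k, LinearMap.smul_apply, Module.End.one_apply]
        · rw [(h.mem_psi s k).2 x₀ hx₀, h3 k, LinearMap.smul_apply, Module.End.one_apply]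
      intro v
      rw [this, LinearMap.smul_apply, Module.End.one_apply]
    have h5 : psi ρ f B 0 x₀ * psi ρ f B 0 x₀ = 1 := by
      have h6 := s.sq x₀ hx₀ (B 0)
      rw [h4, h4, smul_smul] at h6
      have h7 : (psi ρ f B 0 x₀ * psi ρ f B 0 x₀ - 1) • B 0 = 0 := by rw [sub_smul, one_smul, h6, sub_self]
      have := (smul_eq_zero.mp h7).resolve_right (h.B_ne 0)
      linear_combination this
    rcases mul_self_eq_one_iff.mp h5 with h6 | h6
    · exact h1 fun v => by rw [h4, h6, one_smul]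
    · exact h2 fun v => by rw [h4, h6, neg_one_smul]
  -- the three planes
  have hthree : ¬ ((∀ x ∈ C, psi ρ f B 0 x = psi ρ f B 1 x) ∧ (∀ x ∈ C, psi ρ f B 1 x = psi ρ f B 2 x)) := by
    rintro ⟨ha, hb⟩
    have h03 : ¬ ∀ x ∈ C, psi ρ f B 0 x = psi ρ f B 3 x := fun hc => hall ⟨ha, hb, hc⟩
    have hne : Eg ρ C (psi ρ f B 3) ≠ Eg ρ C (psi ρ f B 0) := by
      intro heq
      apply h03
      have h3 := (h.mem_psi s 3).1
      rw [heq] at h3
      exact h.char_eq h3 (h.mem_psi s 3).1 (h.B_ne 3)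
    obtain ⟨g₀, hg₀⟩ := h.exists_psi s 0
    obtain ⟨g₃, hg₃⟩ := h.exists_psi s 3
    have hmap : ∀ v ∈ Eg ρ C (psi ρ f B 0), ρ (g₃ * g₀⁻¹) v ∈ Eg ρ C (psi ρ f B 3) := by
      intro v hv
      rw [hg₀] at hv
      have := mem_cj s.nor (g₃ * g₀⁻¹) hv
      rw [cj_cj, inv_mul_cancel_right] at this
      rwa [hg₃]
    set k := g₃ * g₀⁻¹ with hk
    have hmem1 : B 1 ∈ Eg ρ C (psi ρ f B 0) := by
      rw [Eg_congr ha]; exact (h.mem_psi s 1).1
    have hB0 : ∀ i : Fin 4, i ≠ 3 → B i ∈ Eg ρ C (psi ρ f B 0) ∧ B' i ∈ Eg ρ C (psi ρ f B 0) := by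
      intro i hi
      have hi' : i = 0 ∨ i = 1 ∨ i = 2 := by revert hi; revert i; decide
      rcases hi' with rfl | rfl | rfl
      · exact h.mem_psi s 0
      · rw [Eg_congr ha]; exact h.mem_psi s 1
      · rw [Eg_congr (fun x hx => (ha x hx).trans (hb x hx))]; exact h.mem_psi s 2
    have hor : ∀ {p q : V}, p ∈ Eg ρ C (psi ρ f B 0) → q ∈ Eg ρ C (psi ρ f B 3) → f p q = 0 := by
      intro p q hp hq
      by_contra hcon
      exact hne (Eg_congr (h.ortho s.sq hp hq hcon)).symm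
    obtain ⟨c, hc0, hc1, hc2⟩ := exists_comb ![f (B 3) (ρ k (B 0)), f (B 3) (ρ k (B' 0)), f (B 3) (ρ k (B 1))]
      ![f (B' 3) (ρ k (B 0)), f (B' 3) (ρ k (B' 0)), f (B' 3) (ρ k (B 1))]
    have hc1' : c 0 * f (B 3) (ρ k (B 0)) + c 1 * f (B 3) (ρ k (B' 0)) + c 2 * f (B 3) (ρ k (B 1)) = 0 := hc1
    have hc2' : c 0 * f (B' 3) (ρ k (B 0)) + c 1 * f (B' 3) (ρ k (B' 0)) + c 2 * f (B' 3) (ρ k (B 1)) = 0 := hc2
    set z := c 0 • B 0 + c 1 • B' 0 + c 2 • B 1 with hz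
    have hzm : z ∈ Eg ρ C (psi ρ f B 0) := Submodule.add_mem _ (Submodule.add_mem _ (Submodule.smul_mem _ _
      (h.mem_psi s 0).1) (Submodule.smul_mem _ _ (h.mem_psi s 0).2)) (Submodule.smul_mem _ _ hmem1)
    have hkz : ρ k z = 0 := by
      apply h.eq_zero_of
      · intro i
        by_cases hi : i = 3
        · subst hi
          rw [hz]
          simp only [map_add, map_smul, smul_eq_mul]
          exact hc1'
        · exact hor (hB0 i hi).1 (hmap z hzm)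
      · intro i
        by_cases hi : i = 3
        · subst hi
          rw [hz]
          simp only [map_add, map_smul, smul_eq_mul]
          exact hc2'
        · exact hor (hB0 i hi).2 (hmap z hzm)
    have hz0 : z = 0 := by rw [← ri' ρ k z, hkz, map_zero]
    have e1 : f (B 0) z = 0 := by rw [hz0, map_zero]
    have e2 : f (B' 0) z = 0 := by rw [hz0, map_zero]
    have e3 : f (B 1) z = 0 := by rw [hz0, map_zero]
    rw [hz] at e1 e2 e3
    simp only [map_add, map_smul, smul_eq_mul, h.BB, h.BC, h.CB, h.CC, h.oBB 0 1 (by decide), h.oCB 0 1 (by decide),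
      h.oBB 1 0 (by decide), h.oBC 1 0 (by decide)] at e1 e2 e3
    have c0 : c 0 = 0 := by
      have : (3 : F) * c 0 = 0 := by linear_combination 2 * e1 + e2
      exact (mul_eq_zero.mp this).resolve_left h.three
    have c1 : c 1 = 0 := by
      have : (3 : F) * c 1 = 0 := by linear_combination 2 * e2 + e1
      exact (mul_eq_zero.mp this).resolve_left h.three
    have c2 : c 2 = 0 := by
      have : (2 : F) * c 2 = 0 := by linear_combination e3
      exact (mul_eq_zero.mp this).resolve_left h.two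
    apply hc0
    funext l
    fin_cases l
    · exact c0
    · exact c1
    · exact c2
  intro hR
  -- the relation
  let R : Fin 4 → Fin 4 → Prop := fun i j => ∀ x ∈ C, psi ρ f B i x = psi ρ f B j x
  have Rs : ∀ {a b}, R a b → R b a := fun hab x hx => (hab x hx).symm
  have Rt : ∀ {a b c}, R a b → R b c → R a c := fun hab hbc x hx => (hab x hx).trans (hbc x hx)
  have Rw : ∀ {a b}, R a b → R (tau a) (tau b) := fun hab => hw _ _ hab
  have h01 : ¬ R 0 1 := fun h3 => hthree ⟨h3, Rw h3⟩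
  have h12 : ¬ R 1 2 := fun h3 => h01 (Rw (Rw h3))
  have h20 : ¬ R 2 0 := fun h3 => h01 (Rw h3)
  have h30 : ¬ R 3 0 := fun h3 => h01 (Rt (Rs h3) (Rw h3))
  have h31 : ¬ R 3 1 := fun h3 => h30 (Rw (Rw h3))
  have h32 : ¬ R 3 2 := fun h3 => h30 (Rw h3)
  have hR' : R i j := hR
  have hij0 : ∀ i j : Fin 4, i ≠ j → (i = 0 ∧ j = 1) ∨ (i = 1 ∧ j = 0) ∨ (i = 1 ∧ j = 2) ∨ (i = 2 ∧ j = 1) ∨ (i = 0 ∧ j = 2) ∨
      (i = 2 ∧ j = 0) ∨ (i = 0 ∧ j = 3) ∨ (i = 3 ∧ j = 0) ∨ (i = 1 ∧ j = 3) ∨ (i = 3 ∧ j = 1) ∨ (i = 2 ∧ j = 3) ∨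
      (i = 3 ∧ j = 2) := by
    decide
  rcases hij0 i j hij with ⟨rfl, rfl⟩ | ⟨rfl, rfl⟩ | ⟨rfl, rfl⟩ | ⟨rfl, rfl⟩ | ⟨rfl, rfl⟩ | ⟨rfl, rfl⟩ | ⟨rfl, rfl⟩ |
    ⟨rfl, rfl⟩ | ⟨rfl, rfl⟩ | ⟨rfl, rfl⟩ | ⟨rfl, rfl⟩ | ⟨rfl, rfl⟩
  · exact h01 hR'
  · exact h01 (Rs hR')
  · exact h12 hR'
  · exact h12 (Rs hR')
  · exact h20 (Rs hR')
  · exact h20 hR'
  · exact h30 (Rs hR')
  · exact h30 hR'
  · exact h31 (Rs hR')
  · exact h31 hR'
  · exact h32 (Rs hR')
  · exact h32 hR'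

/-- **the four planes are the eigenspaces** -/
theorem Eg_psi {C : Subgroup H} {χ : H → F} {v₀ : V} (s : Sit ρ C χ v₀) {x₀ : H} (hx₀ : x₀ ∈ C)
    (h1 : ¬ ∀ v, ρ x₀ v = v) (h2 : ¬ ∀ v, ρ x₀ v = -v) (i : Fin 4) :
    Eg ρ C (psi ρ f B i) = U B B' i := by
  apply le_antisymm
  · intro v hv
    apply h.mem_U_of
    · intro j hj
      by_contra hne
      exact h.psi_ne s hx₀ h1 h2 hj (h.ortho s.sq (h.mem_psi s j).1 hv hne)
    · intro j hj
      by_contra hne
      exact h.psi_ne s hx₀ h1 h2 hj (h.ortho s.sq (h.mem_psi s j).2 hv hne)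
  · unfold U
    rw [Submodule.span_le]
    intro v hv
    rcases hv with rfl | hv
    · exact (h.mem_psi s i).1
    · rw [Set.mem_singleton_iff.mp hv]
      exact (h.mem_psi s i).2

/-- `H` permutes the planes -/
theorem perm_planes {C : Subgroup H} {χ : H → F} {v₀ : V} (s : Sit ρ C χ v₀) {x₀ : H} (hx₀ : x₀ ∈ C)
    (h1 : ¬ ∀ v, ρ x₀ v = v) (h2 : ¬ ∀ v, ρ x₀ v = -v) (g : H) (i : Fin 4) :
    ∃ j, (U (F := F) B B' i).map (ρ g) = U B B' j := by
  have hB : ρ g (B i) ≠ 0 := by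
    intro h3
    apply h.B_ne i
    rw [← ri' ρ g (B i), h3, map_zero]
  have h3 := mem_cj s.nor g (h.mem_psi s i).1
  have h4 : ∃ j, Eg ρ C (cj (psi ρ f B i) g) = Eg ρ C (psi ρ f B j) := by
    by_contra hcon
    push Not at hcon
    apply hB
    apply h.eq_zero_of
    · intro j
      by_contra hne
      exact hcon j (Eg_congr (h.ortho s.sq (h.mem_psi s j).1 h3 hne)).symm
    · intro j
      by_contra hne
      exact hcon j (Eg_congr (h.ortho s.sq (h.mem_psi s j).2 h3 hne)).symm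
  obtain ⟨j, hj⟩ := h4
  refine ⟨j, ?_⟩
  rw [← h.Eg_psi s hx₀ h1 h2 i, ← h.Eg_psi s hx₀ h1 h2 j, ← hj]
  apply le_antisymm
  · rintro _ ⟨v, hv, rfl⟩
    exact mem_cj s.nor g hv
  · intro v hv
    refine ⟨ρ g⁻¹ v, ?_, ri ρ g v⟩
    apply mem_of_cj s.nor g
    rw [ri]
    exact hv

/-- **the theorem** -/
theorem main {A : Subgroup H} (hA : A.Normal) (hsq : ∀ x ∈ A, (∀ v, ρ x (ρ x v) = v) ∨ ∀ v, ρ x (ρ x v) = -v)
    (hcm : ∀ x ∈ A, ∀ u ∈ A, (∀ v, ρ x (ρ u v) = ρ u (ρ x v)) ∨ ∀ v, ρ x (ρ u v) = -ρ u (ρ x v)) {x₀ : H}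
    (hx₀ : x₀ ∈ A) (h1 : ¬ ∀ v, ρ x₀ v = v) (h2 : ¬ ∀ v, ρ x₀ v = -v) (g : H) (i : Fin 4) :
    ∃ j, (U (F := F) B B' i).map (ρ g) = U B B' j := by
  have := h.fin
  -- the centre of `A`
  let Z : Subgroup H :=
    { carrier := {x | x ∈ A ∧ ∀ u ∈ A, x * u = u * x}
      one_mem' := ⟨A.one_mem, fun u _ => by rw [one_mul, mul_one]⟩
      mul_mem' := by
        rintro a b ⟨ha, ha1⟩ ⟨hb, hb1⟩
        exact ⟨A.mul_mem ha hb, fun u hu => by rw [mul_assoc, hb1 u hu, ← mul_assoc, ha1 u hu, mul_assoc]⟩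
      inv_mem' := by
        rintro a ⟨ha, ha1⟩
        refine ⟨A.inv_mem ha, fun u hu => ?_⟩
        have h3 := ha1 u hu
        calc a⁻¹ * u = a⁻¹ * (u * a) * a⁻¹ := by group
          _ = a⁻¹ * (a * u) * a⁻¹ := by rw [h3]
          _ = u * a⁻¹ := by group }
  have hZn : Z.Normal := by
    refine ⟨fun a ha g => ?_⟩
    obtain ⟨ha, ha1⟩ := ha
    refine ⟨hA.conj_mem a ha g, fun u hu => ?_⟩
    have h3 : g⁻¹ * u * g ∈ A := by
      have := hA.conj_mem u hu g⁻¹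
      rwa [inv_inv] at this
    have h4 := ha1 _ h3
    calc g * a * g⁻¹ * u = g * (a * (g⁻¹ * u * g)) * g⁻¹ := by group
      _ = g * ((g⁻¹ * u * g) * a) * g⁻¹ := by rw [h4]
      _ = u * (g * a * g⁻¹) := by group
  by_cases hZ : ∃ x ∈ Z, (¬ ∀ v, ρ x v = v) ∧ ¬ ∀ v, ρ x v = -v
  · obtain ⟨x₁, hx₁, hx₁1, hx₁2⟩ := hZ
    let C : Subgroup H :=
      { carrier := {x | x ∈ Z ∧ x * x = 1}
        one_mem' := ⟨Z.one_mem, one_mul 1⟩
        mul_mem' := by
          rintro a b ⟨ha, ha1⟩ ⟨hb, hb1⟩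
          refine ⟨Z.mul_mem ha hb, ?_⟩
          have h3 := ha.2 b hb.1
          calc a * b * (a * b) = a * b * (b * a) := by rw [h3]
            _ = a * (b * b) * a := by group
            _ = 1 := by rw [hb1, mul_one, ha1]
        inv_mem' := by
          rintro a ⟨ha, ha1⟩
          refine ⟨Z.inv_mem ha, ?_⟩
          rw [← mul_inv_rev, ha1, inv_one] }
    have hCn : C.Normal := by
      refine ⟨fun a ha g => ⟨hZn.conj_mem a ha.1 g, ?_⟩⟩
      calc g * a * g⁻¹ * (g * a * g⁻¹) = g * (a * a) * g⁻¹ := by group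
        _ = 1 := by rw [ha.2, mul_one, mul_inv_cancel]
    have hC2 : ∀ x ∈ C, ∀ v, ρ x (ρ x v) = v := by
      intro x hx v
      rw [← rm, hx.2, r1]
    have hCc : ∀ x ∈ C, ∀ z ∈ C, x * z = z * x := fun x hx z hz => hx.1.2 z hz.1.1
    by_cases hC : ∃ x ∈ C, (¬ ∀ v, ρ x v = v) ∧ ¬ ∀ v, ρ x v = -v
    · obtain ⟨x₂, hx₂, hx₂1, hx₂2⟩ := hC
      have htop : (⊤ : Submodule F V) ≠ ⊥ := by
        intro h3
        apply h.B_ne 0
        have : B 0 ∈ (⊤ : Submodule F V) := Submodule.mem_top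
        rwa [h3, Submodule.mem_bot] at this
      obtain ⟨v₀, hv0, hv₀⟩ := exists_common hC2 hCc _ ⊤ rfl htop fun _ _ _ _ => Submodule.mem_top
      classical
      let χ : H → F := fun x => if ρ x v₀ = v₀ then 1 else -1
      have hmem : v₀ ∈ Eg ρ C χ := by
        intro x hx
        show ρ x v₀ = (if ρ x v₀ = v₀ then (1 : F) else -1) • v₀
        split_ifs with h3
        · rw [one_smul]; exact h3
        · rw [neg_one_smul]
          exact (hv₀ x hx).resolve_left h3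
      exact h.perm_planes ⟨hCn, hC2, hmem, hv0⟩ hx₂ hx₂1 hx₂2 g i
    · exfalso
      push Not at hC
      have hx₁q : ∀ v, ρ x₁ (ρ x₁ v) = -v := by
        rcases hsq x₁ hx₁.1 with h3 | h3
        · exfalso
          have h4 : x₁ ∈ C := ⟨hx₁, h.inj (LinearMap.ext fun v => by rw [rm, h3, r1])⟩
          obtain ⟨v, hv⟩ := not_forall.mp hx₁1
          exact hx₁2 (hC x₁ h4 (by exact ⟨v, hv⟩))
        · exact h3
      refine h.no_quat hx₁q fun g => ?_
      have h3 : g * x₁ * g⁻¹ ∈ Z := hZn.conj_mem x₁ hx₁ g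
      have h4 : g * x₁ * g⁻¹ * x₁ ∈ C := by
        refine ⟨Z.mul_mem h3 hx₁, ?_⟩
        have h5 := h3.2 x₁ hx₁.1
        apply h.inj
        apply LinearMap.ext
        intro v
        have h6 : g * x₁ * g⁻¹ * x₁ * (g * x₁ * g⁻¹ * x₁) = (g * (x₁ * x₁) * g⁻¹) * (x₁ * x₁) := by
          calc g * x₁ * g⁻¹ * x₁ * (g * x₁ * g⁻¹ * x₁) = g * x₁ * g⁻¹ * x₁ * (x₁ * (g * x₁ * g⁻¹)) := by rw [h5]
            _ = g * x₁ * g⁻¹ * (x₁ * x₁) * (g * x₁ * g⁻¹) := by group
            _ = (x₁ * x₁) * (g * x₁ * g⁻¹) * (g * x₁ * g⁻¹) := by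
                have h7 : g * x₁ * g⁻¹ * (x₁ * x₁) = (x₁ * x₁) * (g * x₁ * g⁻¹) := by
                  rw [← mul_assoc, h5, mul_assoc, h5, ← mul_assoc]
                rw [h7]
            _ = (x₁ * x₁) * (g * (x₁ * x₁) * g⁻¹) := by group
            _ = (g * (x₁ * x₁) * g⁻¹) * (x₁ * x₁) := by
                have h8 : g * (x₁ * x₁) * g⁻¹ ∈ A := hA.conj_mem _ (A.mul_mem hx₁.1 hx₁.1) g
                exact (Z.mul_mem hx₁ hx₁).2 _ h8
        rw [h6, rm, rm, rm, rm ρ x₁ x₁ v, hx₁q, map_neg, map_neg, rm ρ x₁ x₁, hx₁q, map_neg, map_neg, ri, neg_neg, r1]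
      have h5 : (∀ v, ρ (g * x₁ * g⁻¹ * x₁) v = v) ∨ ∀ v, ρ (g * x₁ * g⁻¹ * x₁) v = -v := by
        by_cases h6 : ∀ v, ρ (g * x₁ * g⁻¹ * x₁) v = v
        · exact Or.inl h6
        · exact Or.inr (hC _ h4 (not_forall.mp h6))
      have h7 : ∀ v, ρ x₁ (-ρ x₁ v) = v := by
        intro v
        rw [map_neg, hx₁q, neg_neg]
      rcases h5 with h5 | h5
      · right
        intro v
        have h6 := h5 (-ρ x₁ v)
        rw [rm, h7] at h6
        exact h6
      · left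
        intro v
        have h6 := h5 (-ρ x₁ v)
        rw [rm, h7, neg_neg] at h6
        exact h6
  · exfalso
    push Not at hZ
    refine h.no_extra hA (fun x hx => ?_) hx₀ h1 h2
    by_cases hxZ : x ∈ Z
    · by_cases h3 : ∀ v, ρ x v = v
      · exact Or.inl h3
      · exact Or.inr (Or.inl (hZ x hxZ (not_forall.mp h3)))
    · right
      right
      have h3 : ¬ ∀ u ∈ A, x * u = u * x := fun h4 => hxZ ⟨hx, h4⟩
      push Not at h3
      obtain ⟨u, hu, h4⟩ := h3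
      refine ⟨u, hu, ?_⟩
      rcases hcm u hu x hx with h5 | h5
      · exact absurd (h.inj (LinearMap.ext fun v => by rw [rm, rm, h5])) h4
      · exact h5

end Conf

end Cfsg.Agent.H574.RV.Oct
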