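import Cfsg.Agent.H574.RV.OctLin

/-!
# Eight-dimensional orthogonal groups with a normal 2-subgroup, II (helper574): elementary abelian normal subgroups
-/

set_option autoImplicit false
set_option linter.unusedSectionVars false

namespace Cfsg.Agent.H574.RV.Oct

open Module Cfsg.Agent.H556.Om

variable {F : Type*} [Field F] {V : Type*} [AddCommGroup V] [Module F V] {H : Type*} [Group H]

/-- common eigenspaces -/
def Eg (ρ : Representation F H V) (C : Subgroup H) (χ : H → F) : Submodule F V where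
  carrier := {v | ∀ x ∈ C, ρ x v = χ x • v}
  zero_mem' := by intro x _; rw [map_zero, smul_zero]
  add_mem' := by intro a b ha hb x hx; rw [map_add, ha x hx, hb x hx, smul_add]
  smul_mem' := by intro c a ha x hx; rw [map_smul, ha x hx, smul_comm]

/-- conjugate characters -/
def cj (χ : H → F) (g : H) : H → F := fun x => χ (g⁻¹ * x * g)

theorem cj_cj (χ : H → F) (g k : H) : cj (cj χ g) k = cj χ (k * g) := by
  funext x
  show χ (g⁻¹ * (k⁻¹ * x * k) * g) = χ ((k * g)⁻¹ * x * (k * g))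
  congr 1
  group

theorem cj_one (χ : H → F) : cj χ 1 = χ := by
  funext x
  show χ (1⁻¹ * x * 1) = χ x
  congr 1
  group

theorem Eg_congr {ρ : Representation F H V} {C : Subgroup H} {χ χ' : H → F} (h : ∀ x ∈ C, χ x = χ' x) :
    Eg ρ C χ = Eg ρ C χ' := by
  ext v
  constructor
  · intro hv x hx
    rw [hv x hx, h x hx]
  · intro hv x hx
    rw [hv x hx, h x hx]

theorem mem_cj {ρ : Representation F H V} {C : Subgroup H} (hC : C.Normal) {χ : H → F} (g : H) {v : V}
    (hv : v ∈ Eg ρ C χ) : ρ g v ∈ Eg ρ C (cj χ g) := by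
  intro x hx
  have h1 : g⁻¹ * x * g ∈ C := by
    have := hC.conj_mem x hx g⁻¹
    rwa [inv_inv] at this
  have h3 := hv _ h1
  rw [← rm]
  have h4 : x * g = g * (g⁻¹ * x * g) := by group
  rw [h4, rm, h3, map_smul]
  rfl

theorem mem_of_cj {ρ : Representation F H V} {C : Subgroup H} (hC : C.Normal) {χ : H → F} (g : H) {v : V}
    (hv : ρ g v ∈ Eg ρ C (cj χ g)) : v ∈ Eg ρ C χ := by
  have h1 := mem_cj hC g⁻¹ hv
  rwa [ri', cj_cj, inv_mul_cancel, cj_one] at h1

theorem exists_comb (a b : Fin 3 → F) : ∃ c : Fin 3 → F, c ≠ 0 ∧ c 0 * a 0 + c 1 * a 1 + c 2 * a 2 = 0 ∧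
    c 0 * b 0 + c 1 * b 1 + c 2 * b 2 = 0 := by
  let Φ : (Fin 3 → F) →ₗ[F] (Fin 2 → F) :=
    { toFun := fun c => ![c 0 * a 0 + c 1 * a 1 + c 2 * a 2, c 0 * b 0 + c 1 * b 1 + c 2 * b 2]
      map_add' := by
        intro c d
        ext i
        fin_cases i <;> simp <;> ring
      map_smul' := by
        intro c d
        ext i
        fin_cases i <;> simp <;> ring }
  have h1 : finrank F (Fin 2 → F) < finrank F (Fin 3 → F) := by
    rw [finrank_fin_fun, finrank_fin_fun]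
    norm_num
  obtain ⟨c, hc, hc0⟩ := Submodule.exists_mem_ne_zero_of_ne_bot (LinearMap.ker_ne_bot_of_finrank_lt (f := Φ) h1)
  exact ⟨c, hc0, congrFun (LinearMap.mem_ker.mp hc) 0, congrFun (LinearMap.mem_ker.mp hc) 1⟩

/-- common eigenvectors of commuting involutions -/
theorem exists_common {ρ : Representation F H V} [FiniteDimensional F V] {C : Subgroup H}
    (hC2 : ∀ x ∈ C, ∀ v, ρ x (ρ x v) = v) (hCc : ∀ x ∈ C, ∀ z ∈ C, x * z = z * x) (n : ℕ) :
    ∀ W : Submodule F V, finrank F W = n → W ≠ ⊥ → (∀ x ∈ C, ∀ v ∈ W, ρ x v ∈ W) →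
      ∃ v, v ≠ 0 ∧ ∀ x ∈ C, ρ x v = v ∨ ρ x v = -v := by
  induction n using Nat.strong_induction_on with
  | _ n ih =>
    intro W hn hW hCW
    by_cases hall : ∀ x ∈ C, (∀ v ∈ W, ρ x v = v) ∨ (∀ v ∈ W, ρ x v = -v)
    · obtain ⟨v, hv, hv0⟩ := Submodule.exists_mem_ne_zero_of_ne_bot hW
      exact ⟨v, hv0, fun x hx => (hall x hx).imp (fun h => h v hv) fun h => h v hv⟩
    · push Not at hall
      obtain ⟨x, hx, ⟨v₁, hv₁, h1⟩, v₂, hv₂, h2⟩ := hall
      let W' : Submodule F V := W ⊓ LinearMap.ker (ρ x - 1)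
      have hm : ∀ v, v ∈ W' ↔ v ∈ W ∧ ρ x v = v := by
        intro v
        rw [Submodule.mem_inf, LinearMap.mem_ker, LinearMap.sub_apply, Module.End.one_apply, sub_eq_zero]
      have hlt : W' < W := by
        refine lt_of_le_of_ne inf_le_left fun h => ?_
        rw [← h] at hv₁
        exact h1 ((hm v₁).mp hv₁).2
      have hne : W' ≠ ⊥ := by
        intro h
        have h3 : v₂ + ρ x v₂ ∈ W' := by
          refine (hm _).mpr ⟨W.add_mem hv₂ (hCW x hx _ hv₂), ?_⟩
          rw [map_add, hC2 x hx, add_comm]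
        rw [h, Submodule.mem_bot] at h3
        exact h2 (by rw [eq_neg_iff_add_eq_zero, add_comm]; exact h3)
      have hfr : finrank F W' < n := by
        rw [← hn]
        exact Submodule.finrank_lt_finrank_of_lt hlt
      refine ih _ hfr W' rfl hne fun z hz v hv => ?_
      obtain ⟨h3, h4⟩ := (hm v).mp hv
      refine (hm _).mpr ⟨hCW z hz v h3, ?_⟩
      rw [← rm, hCc x hx z hz, rm, h4]

namespace Conf

variable {ρ : Representation F H V} {f : V →ₗ[F] V →ₗ[F] F} {J : Type*} [Fintype J] [DecidableEq J] {e : J → V}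
  {B B' : Fin 4 → V} {y : Fin 4 → H} {w : H} (h : Conf ρ f e B B' y w)

/-! ### The element of order 9 -/

/-- the cube of `w * y 0` -/
def dd (y : Fin 4 → H) (w : H) : H := (w * y 0) * (w * y 0) * (w * y 0)

include h

theorem cB0 : ρ (w * y 0) (B 0) = B' 1 := by rw [rm, h.yB, h.wC]; rfl
theorem cB1 : ρ (w * y 0) (B 1) = B 2 := by rw [rm, h.yBo 0 1 (by decide), h.wB]; rfl
theorem cB2 : ρ (w * y 0) (B 2) = B 0 := by rw [rm, h.yBo 0 2 (by decide), h.wB]; rfl
theorem cB3 : ρ (w * y 0) (B 3) = B 3 := by rw [rm, h.yBo 0 3 (by decide), h.wB]; rfl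
theorem cC0 : ρ (w * y 0) (B' 0) = -B 1 - B' 1 := by rw [rm, h.yC, map_sub, map_neg, h.wB, h.wC]; rfl
theorem cC1 : ρ (w * y 0) (B' 1) = B' 2 := by rw [rm, h.yCo 0 1 (by decide), h.wC]; rfl
theorem cC2 : ρ (w * y 0) (B' 2) = B' 0 := by rw [rm, h.yCo 0 2 (by decide), h.wC]; rfl
theorem cC3 : ρ (w * y 0) (B' 3) = B' 3 := by rw [rm, h.yCo 0 3 (by decide), h.wC]; rfl

omit h in
theorem dd_ap (v : V) : ρ (dd y w) v = ρ (w * y 0) (ρ (w * y 0) (ρ (w * y 0) v)) := by
  obtain ⟨c, hc⟩ : ∃ c, c = w * y 0 := ⟨_, rfl⟩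
  unfold dd
  rw [← hc, rm, rm]

theorem dB (i : Fin 4) (hi : i ≠ 3) : ρ (dd y w) (B i) = B' i ∧ ρ (dd y w) (B' i) = -B i - B' i := by
  rw [dd_ap, dd_ap]
  have h3 : i = 0 ∨ i = 1 ∨ i = 2 := by
    revert hi
    revert i
    decide
  rcases h3 with rfl | rfl | rfl
  · refine ⟨?_, ?_⟩
    · rw [h.cB0, h.cC1, h.cC2]
    · rw [h.cC0, map_sub, map_neg, h.cB1, h.cC1, map_sub, map_neg, h.cB2, h.cC2]
  · refine ⟨?_, ?_⟩
    · rw [h.cB1, h.cB2, h.cB0]
    · rw [h.cC1, h.cC2, h.cC0]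
  · refine ⟨?_, ?_⟩
    · rw [h.cB2, h.cB0, h.cC1]
    · rw [h.cC2, h.cC0, map_sub, map_neg, h.cB1, h.cC1]

theorem dB3 : ρ (dd y w) (B 3) = B 3 ∧ ρ (dd y w) (B' 3) = B' 3 := by
  rw [dd_ap, dd_ap, h.cB3, h.cB3, h.cB3, h.cC3, h.cC3, h.cC3]
  exact ⟨rfl, rfl⟩

theorem d_cube : dd y w * dd y w * dd y w = 1 := by
  refine h.eq_of (fun i => ?_) fun i => ?_
  · rw [rm, rm, r1]
    by_cases hi : i = 3
    · subst hi
      rw [h.dB3.1, h.dB3.1, h.dB3.1]
    · rw [(h.dB i hi).1, (h.dB i hi).2, map_sub, map_neg, (h.dB i hi).1, (h.dB i hi).2]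
      abel
  · rw [rm, rm, r1]
    by_cases hi : i = 3
    · subst hi
      rw [h.dB3.2, h.dB3.2, h.dB3.2]
    · rw [(h.dB i hi).2, map_sub, map_neg, (h.dB i hi).1, (h.dB i hi).2, map_sub, map_neg, map_sub, map_neg,
        (h.dB i hi).1, (h.dB i hi).2]
      abel

theorem c_nine : (w * y 0) ^ 9 = 1 := by
  have h1 : (w * y 0) ^ 9 = dd y w * dd y w * dd y w := by
    unfold dd
    simp only [pow_succ, pow_zero, one_mul, mul_assoc]
  rw [h1, h.d_cube]

theorem eq_zero_of {v : V} (h1 : ∀ i, f (B i) v = 0) (h3 : ∀ i, f (B' i) v = 0) : v = 0 := by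
  obtain ⟨α, β, rfl⟩ := h.Bspan v
  have h4 : ∀ i, α i = 0 ∧ β i = 0 := by
    intro i
    have h5 := h1 i
    have h6 := h3 i
    rw [h.fB] at h5
    rw [h.fC] at h6
    constructor
    · have h7 : (3 : F) * α i = 0 := by linear_combination 2 * h5 + h6
      exact (mul_eq_zero.mp h7).resolve_left h.three
    · have h7 : (3 : F) * β i = 0 := by linear_combination 2 * h6 + h5
      exact (mul_eq_zero.mp h7).resolve_left h.three
  refine Finset.sum_eq_zero fun i _ => ?_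
  rw [(h4 i).1, (h4 i).2, zero_smul, zero_smul, add_zero]

theorem mem_U_of {v : V} {i : Fin 4} (h1 : ∀ j, j ≠ i → f (B j) v = 0) (h3 : ∀ j, j ≠ i → f (B' j) v = 0) :
    v ∈ U (F := F) B B' i := by
  obtain ⟨α, β, rfl⟩ := h.Bspan v
  rw [Finset.sum_eq_single i]
  · refine Submodule.add_mem _ (Submodule.smul_mem _ _ ?_) (Submodule.smul_mem _ _ ?_)
    · exact Submodule.subset_span (by simp)
    · exact Submodule.subset_span (by simp)
  · intro j _ hj
    have h5 := h1 j hj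
    have h6 := h3 j hj
    rw [h.fB] at h5
    rw [h.fC] at h6
    have h7 : (3 : F) * α j = 0 := by linear_combination 2 * h5 + h6
    have h8 : (3 : F) * β j = 0 := by linear_combination 2 * h6 + h5
    rw [(mul_eq_zero.mp h7).resolve_left h.three, (mul_eq_zero.mp h8).resolve_left h.three, zero_smul, zero_smul,
      add_zero]
  · intro hi
    exact absurd (Finset.mem_univ i) hi

/-! ### The eigenspaces -/

theorem ortho {C : Subgroup H} (hC2 : ∀ x ∈ C, ∀ v, ρ x (ρ x v) = v) {χ χ' : H → F} {u v : V} (hu : u ∈ Eg ρ C χ)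
    (hv : v ∈ Eg ρ C χ') (huv : f u v ≠ 0) : ∀ x ∈ C, χ x = χ' x := by
  intro x hx
  have h1 := h.iso x u v
  rw [hu x hx, hv x hx, map_smul, map_smul, LinearMap.smul_apply, smul_eq_mul, smul_eq_mul] at h1
  have h3 : χ' x * χ x = 1 := by
    have h4 : (χ' x * χ x - 1) * f u v = 0 := by linear_combination h1
    have := (mul_eq_zero.mp h4).resolve_right huv
    linear_combination this
  have h4 : χ x * χ x = 1 := by
    have h5 := hC2 x hx u
    rw [hu x hx, map_smul, hu x hx, smul_smul] at h5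
    have h6 : (χ x * χ x - 1) • u = 0 := by rw [sub_smul, one_smul, h5, sub_self]
    rcases smul_eq_zero.mp h6 with h7 | h7
    · linear_combination h7
    · exact absurd (by rw [h7, map_zero, LinearMap.zero_apply]) huv
  calc χ x = χ x * (χ' x * χ x) := by rw [h3, mul_one]
    _ = χ' x * (χ x * χ x) := by ring
    _ = χ' x := by rw [h4, mul_one]

theorem ext_E {V' : Type*} [AddCommGroup V'] [Module F V'] {C : Subgroup H} (hC : C.Normal) {χ : H → F} {v₀ : V}
    (hv₀ : v₀ ∈ Eg ρ C χ) (hv0 : v₀ ≠ 0) {φ ψ : V →ₗ[F] V'} (hφ : ∀ g, ∀ v ∈ Eg ρ C (cj χ g), φ v = ψ v) : φ = ψ := by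
  have h1 : (⨆ g, Eg ρ C (cj χ g)) = ⊤ := by
    refine h.irr (v := v₀) ?_ ?_ hv0
    · intro g v hv
      have h3 : (⨆ k, Eg ρ C (cj χ k)) ≤ (⨆ k, Eg ρ C (cj χ k)).comap (ρ g) := by
        refine iSup_le fun k v hv => ?_
        have h4 := mem_cj hC g hv
        rw [cj_cj] at h4
        exact (le_iSup (fun k => Eg ρ C (cj χ k)) (g * k)) h4
      exact h3 hv
    · have h3 : v₀ ∈ Eg ρ C (cj χ 1) := by rw [cj_one]; exact hv₀
      exact (le_iSup (fun k => Eg ρ C (cj χ k)) 1) h3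
  have h3 : (⨆ g, Eg ρ C (cj χ g)) ≤ LinearMap.eqLocus φ ψ := iSup_le fun g v hv => hφ g v hv
  rw [h1] at h3
  apply LinearMap.ext
  intro v
  exact h3 (Submodule.mem_top (x := v))

theorem zero_of_orth {C : Subgroup H} (hC : C.Normal) {χ : H → F} {v₀ : V} (hv₀ : v₀ ∈ Eg ρ C χ) (hv0 : v₀ ≠ 0) {v : V}
    (hv : ∀ g, ∀ u ∈ Eg ρ C (cj χ g), f u v = 0) : v = 0 := by
  have h1 : f.flip v = 0 := h.ext_E hC hv₀ hv0 fun g u hu => hv g u hu
  apply h.nd
  intro u
  exact LinearMap.congr_fun h1 u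

/-- vectors in pairwise distinct eigenspaces are orthogonal; a relation between them is trivial -/
theorem few {C : Subgroup H} (hC : C.Normal) (hC2 : ∀ x ∈ C, ∀ v, ρ x (ρ x v) = v) {χ : H → F} {v₀ : V}
    (hv₀ : v₀ ∈ Eg ρ C χ) (hv0 : v₀ ≠ 0) {n : ℕ} (k : Fin n → H)
    (hk : ∀ i j, i ≠ j → Eg ρ C (cj χ (k i)) ≠ Eg ρ C (cj χ (k j))) : n ≤ 8 := by
  have := h.fin
  have h1 : LinearIndependent F fun i => ρ (k i) v₀ := by
    rw [Fintype.linearIndependent_iff]
    intro c hc i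
    have h3 : c i • ρ (k i) v₀ = 0 := by
      refine h.zero_of_orth hC hv₀ hv0 fun g u hu => ?_
      by_contra hne
      have h4 := h.ortho hC2 hu ((Eg ρ C (cj χ (k i))).smul_mem (c i) (mem_cj hC (k i) hv₀)) hne
      apply hne
      have h5 : f u (∑ j, c j • ρ (k j) v₀) = f u (c i • ρ (k i) v₀) := by
        rw [map_sum, Finset.sum_eq_single i]
        · intro j _ hj
          by_contra hne'
          have h6 := h.ortho hC2 hu ((Eg ρ C (cj χ (k j))).smul_mem (c j) (mem_cj hC (k j) hv₀)) hne'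
          exact hk j i hj (Eg_congr fun x hx => (h6 x hx).symm.trans (h4 x hx))
        · intro hi
          exact absurd (Finset.mem_univ i) hi
      rw [← h5, hc, map_zero]
    rcases smul_eq_zero.mp h3 with h4 | h4
    · exact h4
    · exfalso
      apply hv0
      rw [← ri' ρ (k i) v₀, h4, map_zero]
  have h3 := h1.fintype_card_le_finrank
  rwa [Fintype.card_fin, h.dim] at h3

/-- the stabiliser of a subspace -/
def stW (ρ : Representation F H V) (W : Submodule F V) : Subgroup H where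
  carrier := {k | ∀ v, v ∈ W ↔ ρ k v ∈ W}
  one_mem' := fun v => by rw [r1]
  mul_mem' := by
    intro a b ha hb v
    rw [rm, ← ha, ← hb]
  inv_mem' := by
    intro a ha v
    rw [ha (ρ a⁻¹ v), ri]

omit h in
theorem mem_stW {W : Submodule F V} {k : H} : k ∈ stW ρ W ↔ ∀ v, v ∈ W ↔ ρ k v ∈ W := Iff.rfl

omit h in
theorem stW_of_eq {C : Subgroup H} (hC : C.Normal) {χ : H → F} {a b : H}
    (hab : Eg ρ C (cj χ a) = Eg ρ C (cj χ b)) (g : H) (hg : b = g * a) : g ∈ stW ρ (Eg ρ C (cj χ a)) := by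
  subst hg
  intro v
  constructor
  · intro hv
    have h1 := mem_cj hC g hv
    rwa [cj_cj, ← hab] at h1
  · intro hv
    rw [hab, ← cj_cj] at hv
    exact mem_of_cj hC g hv

/-- `dd` preserves the eigenspaces -/
theorem dd_mem {C : Subgroup H} (hC : C.Normal) (hC2 : ∀ x ∈ C, ∀ v, ρ x (ρ x v) = v) {χ : H → F} {v₀ : V}
    (hv₀ : v₀ ∈ Eg ρ C χ) (hv0 : v₀ ≠ 0) (g : H) : dd y w ∈ stW ρ (Eg ρ C (cj χ g)) := by
  by_contra hcon
  set c := w * y 0 with hc
  have h9 : c ^ 9 = 1 := h.c_nine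
  have hdd : dd y w = c ^ 3 := by
    unfold dd
    rw [pow_succ, pow_two]
  have key : ∀ m : ℕ, 0 < m → m < 9 → c ^ m ∉ stW ρ (Eg ρ C (cj χ g)) := by
    intro m hm hm9 hmem
    apply hcon
    have h1 : ∃ k : Fin 9, m * k.1 % 9 = 3 := by
      interval_cases m <;> decide
    obtain ⟨k, hk⟩ := h1
    have h3 : c ^ 3 = (c ^ m) ^ k.1 := by
      rw [← pow_mul, ← Nat.div_add_mod (m * k.1) 9, hk, pow_add, pow_mul, h9, one_pow, one_mul]
    rw [hdd, h3]
    exact Subgroup.pow_mem _ hmem _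
  have h1 := h.few hC hC2 hv₀ hv0 (n := 9) (fun i => c ^ i.1 * g) (by
    have hlt : ∀ i j : Fin 9, i < j → Eg ρ C (cj χ (c ^ i.1 * g)) ≠ Eg ρ C (cj χ (c ^ j.1 * g)) := by
      intro i j hij heq
      have hij' : i.1 < j.1 := hij
      apply key (j.1 - i.1) (by omega) (by have := j.2; omega)
      intro v
      have h3 : c ^ j.1 * g = c ^ i.1 * (c ^ (j.1 - i.1) * g) := by
        rw [← mul_assoc, ← pow_add]
        congr 2
        omega
      constructor
      · intro hv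
        have h4 := mem_cj hC (c ^ j.1) hv
        rw [cj_cj, ← heq, ← cj_cj] at h4
        have h5 : c ^ j.1 = c ^ i.1 * c ^ (j.1 - i.1) := by
          rw [← pow_add]
          congr 1
          omega
        rw [h5, rm] at h4
        exact mem_of_cj hC _ h4
      · intro hv
        have h4 := mem_cj hC (c ^ i.1) hv
        have h5 : c ^ i.1 * c ^ (j.1 - i.1) = c ^ j.1 := by
          rw [← pow_add]
          congr 1
          omega
        rw [cj_cj, heq, ← rm, h5, ← cj_cj] at h4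
        exact mem_of_cj hC _ h4
    intro i j hij
    rcases lt_or_gt_of_ne hij with h3 | h3
    · exact hlt i j h3
    · exact (hlt j i h3).symm)
  omega

end Conf

end Cfsg.Agent.H574.RV.Oct
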