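import Cfsg.Agent.H574.RV.OctVec
import Cfsg.Agent.H76.PermFour

/-!
# The stabiliser of four orthogonal planes is solvable (helper574)
-/

set_option autoImplicit false
set_option linter.unusedSectionVars false

namespace Cfsg.Agent.H574.RV.Oct

open Module Cfsg.Agent.H556.Om

namespace Gram

variable {F : Type*} [Field F] {V : Type*} [AddCommGroup V] [Module F V] {f : V →ₗ[F] V →ₗ[F] F} {B B' : Fin 4 → V}
  (h : Gram f B B') {N : Type*} [Group N] {ρ : Representation F N V}

include h

theorem f_U {i j : Fin 4} (hij : i ≠ j) {v : V} (hv : v ∈ U (F := F) B B' j) : f (B i) v = 0 ∧ f (B' i) v = 0 := by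
  unfold U at hv
  obtain ⟨a, b, rfl⟩ := Submodule.mem_span_pair.mp hv
  constructor
  · rw [map_add, map_smul, map_smul, h.oBB i j hij, h.oBC i j hij, smul_zero, smul_zero, add_zero]
  · rw [map_add, map_smul, map_smul, h.oCB i j hij, h.oCC i j hij, smul_zero, smul_zero, add_zero]

theorem U_inj {i j : Fin 4} (hij : U (F := F) B B' i = U B B' j) : i = j := by
  by_contra hne
  have h1 : B i ∈ U (F := F) B B' j := by
    rw [← hij]
    exact Submodule.subset_span (by simp)
  have h3 := (h.f_U hne h1).1
  rw [h.BB] at h3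
  exact h.two h3

theorem coord {i : Fin 4} {v : V} (hv : v ∈ U (F := F) B B' i) : v = ca f B B' i v • B i + cb f B B' i v • B' i := by
  conv_lhs => rw [h.expand v]
  rw [Finset.sum_eq_single i]
  · intro j _ hj
    obtain ⟨h1, h3⟩ := h.f_U hj hv
    rw [ca_apply, cb_apply, h1, h3]
    simp
  · intro hi
    exact absurd (Finset.mem_univ i) hi

omit h in
theorem B_mem (i : Fin 4) : B i ∈ U (F := F) B B' i := Submodule.subset_span (by simp)

omit h in
theorem C_mem (i : Fin 4) : B' i ∈ U (F := F) B B' i := Submodule.subset_span (by simp)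

theorem caB (i : Fin 4) : ca f B B' i (B i) = 1 := by
  have h3 : (3 : F)⁻¹ * 3 = 1 := inv_mul_cancel₀ h.three
  rw [ca_apply, h.BB, h.CB]
  linear_combination h3

theorem caC (i : Fin 4) : ca f B B' i (B' i) = 0 := by
  rw [ca_apply, h.BC, h.CC]
  ring

theorem cbB (i : Fin 4) : cb f B B' i (B i) = 0 := by
  rw [cb_apply, h.BB, h.CB]
  ring

theorem cbC (i : Fin 4) : cb f B B' i (B' i) = 1 := by
  have h3 : (3 : F)⁻¹ * 3 = 1 := inv_mul_cancel₀ h.three
  rw [cb_apply, h.BC, h.CC]
  linear_combination h3

omit h in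
/-- the determinant on the `i`-th plane -/
def dt (f : V →ₗ[F] V →ₗ[F] F) (B B' : Fin 4 → V) (φ : V →ₗ[F] V) (i : Fin 4) : F :=
  ca f B B' i (φ (B i)) * cb f B B' i (φ (B' i)) - cb f B B' i (φ (B i)) * ca f B B' i (φ (B' i))

theorem dt_one (i : Fin 4) : dt f B B' 1 i = 1 := by
  unfold dt
  rw [Module.End.one_apply, Module.End.one_apply, h.caB, h.caC, h.cbB, h.cbC]
  ring

theorem dt_mul {φ ψ : V →ₗ[F] V} {i : Fin 4} (h1 : ψ (B i) ∈ U (F := F) B B' i) (h3 : ψ (B' i) ∈ U (F := F) B B' i) :
    dt f B B' (φ * ψ) i = dt f B B' φ i * dt f B B' ψ i := by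
  unfold dt
  rw [Module.End.mul_apply, Module.End.mul_apply]
  have e1 := h.coord h1
  have e2 := h.coord h3
  generalize ca f B B' i (ψ (B i)) = a at e1
  generalize cb f B B' i (ψ (B i)) = b at e1
  generalize ca f B B' i (ψ (B' i)) = c at e2
  generalize cb f B B' i (ψ (B' i)) = d at e2
  rw [e1, e2]
  simp only [map_add, map_smul, smul_eq_mul]
  ring

/-- isometries of a plane of determinant one -/
theorem form_of_dt {φ : V →ₗ[F] V} (hφ : ∀ u v, f (φ u) (φ v) = f u v) {i : Fin 4}
    (h1 : φ (B i) ∈ U (F := F) B B' i) (h3 : φ (B' i) ∈ U (F := F) B B' i) (hd : dt f B B' φ i = 1) :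
    ∃ a b : F, φ (B i) = a • B i + b • B' i ∧ φ (B' i) = (-b) • B i + (a - b) • B' i := by
  have e1 := h.coord h1
  have e2 := h.coord h3
  unfold dt at hd
  generalize ca f B B' i (φ (B i)) = a at e1 hd
  generalize cb f B B' i (φ (B i)) = b at e1 hd
  generalize ca f B B' i (φ (B' i)) = c at e2 hd
  generalize cb f B B' i (φ (B' i)) = d at e2 hd
  have f1 := hφ (B i) (B i)
  have f2 := hφ (B i) (B' i)
  rw [e1] at f1
  rw [e1, e2] at f2
  simp only [map_add, map_smul, LinearMap.add_apply, LinearMap.smul_apply, smul_eq_mul, h.BB, h.BC, h.CB, h.CC] at f1 f2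
  have r : ∀ x : F, 2 * x = 0 → x = 0 := fun x hx => (mul_eq_zero.mp hx).resolve_left h.two
  have f3 : a * a - a * b + b * b = 1 := by
    have := r (a * a - a * b + b * b - 1) (by linear_combination f1)
    linear_combination this
  have hc : c = -b := by
    have := r (c + b) (by linear_combination (-(2 * b - a)) * hd + a * f2 - (2 * c) * f3)
    linear_combination this
  have hd' : d = a - b := by
    have := r (d - (a - b)) (by linear_combination (2 * a - b) * hd + b * f2 - (2 * d) * f3)
    linear_combination this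
  refine ⟨a, b, e1, ?_⟩
  rw [e2, hc, hd']

theorem solvable (hinj : Function.Injective ρ) (hiso : ∀ g u v, f (ρ g u) (ρ g v) = f u v)
    (hperm : ∀ g i, ∃ j, (U (F := F) B B' i).map (ρ g) = U B B' j) : Group.IsSolvable N := by
  have hsol4 : Group.IsSolvable (Equiv.Perm (Fin 4)) := Cfsg.Agent.H76.PermFour.solvable_perm_four
  let M : Subgroup (N × Equiv.Perm (Fin 4)) :=
    { carrier := {p | ∀ k, (U (F := F) B B' k).map (ρ p.1) = U B B' (p.2 k)}
      one_mem' := fun k => by
        show (U (F := F) B B' k).map (ρ 1) = U B B' k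
        rw [map_one]
        exact Submodule.map_id _
      mul_mem' := by
        intro p q hp hq k
        show (U (F := F) B B' k).map (ρ (p.1 * q.1)) = U B B' (p.2 (q.2 k))
        rw [map_mul, Module.End.mul_eq_comp, Submodule.map_comp, hq, hp]
      inv_mem' := by
        intro p hp k
        show (U (F := F) B B' k).map (ρ p.1⁻¹) = U B B' (p.2⁻¹ k)
        have h1 := hp (p.2⁻¹ k)
        have h3 : p.2 (p.2⁻¹ k) = k := p.2.apply_symm_apply k
        rw [h3] at h1
        rw [← h1, ← Submodule.map_comp, ← Module.End.mul_eq_comp, ← map_mul, inv_mul_cancel, map_one]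
        exact Submodule.map_id _ }
  let π1 : M →* N := (MonoidHom.fst _ _).comp M.subtype
  let π2 : M →* Equiv.Perm (Fin 4) := (MonoidHom.snd _ _).comp M.subtype
  have hs : Function.Surjective π1 := by
    intro g
    choose τ hτ using hperm g
    have hτi : Function.Injective τ := by
      intro i j hij
      have h1 : (U (F := F) B B' i).map (ρ g) = (U B B' j).map (ρ g) := by rw [hτ, hτ, hij]
      have h3 : Function.Injective (ρ g) := by
        intro u v huv
        rw [← ri' ρ g u, huv, ri']
      exact h.U_inj (Submodule.map_injective_of_injective h3 h1)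
    exact ⟨⟨(g, Equiv.ofBijective τ (Finite.injective_iff_bijective.mp hτi)), hτ⟩, rfl⟩
  have hK : Group.IsSolvable π2.ker := by
    have hU : ∀ (k : π2.ker) (i : Fin 4), (U (F := F) B B' i).map (ρ (k : M).1.1) = U B B' i := by
      intro k i
      have h1 := (k : M).2 i
      have h3 : (k : M).1.2 = 1 := k.2
      rw [h3] at h1
      exact h1
    have hmB : ∀ (k : π2.ker) (i : Fin 4), ρ (k : M).1.1 (B i) ∈ U (F := F) B B' i := by
      intro k i
      have h1 : ρ (k : M).1.1 (B i) ∈ (U (F := F) B B' i).map (ρ (k : M).1.1) := ⟨B i, B_mem i, rfl⟩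
      rwa [hU] at h1
    have hmC : ∀ (k : π2.ker) (i : Fin 4), ρ (k : M).1.1 (B' i) ∈ U (F := F) B B' i := by
      intro k i
      have h1 : ρ (k : M).1.1 (B' i) ∈ (U (F := F) B B' i).map (ρ (k : M).1.1) := ⟨B' i, C_mem i, rfl⟩
      rwa [hU] at h1
    let δ : π2.ker →* (Fin 4 → F) :=
      { toFun := fun k i => dt f B B' (ρ (k : M).1.1) i
        map_one' := by
          funext i
          show dt f B B' (ρ 1) i = 1
          rw [map_one]
          exact h.dt_one i
        map_mul' := by
          intro a b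
          funext i
          show dt f B B' (ρ ((a : M).1.1 * (b : M).1.1)) i = _
          rw [map_mul]
          exact h.dt_mul (hmB b i) (hmC b i) }
    have hcomm : Group.IsSolvable δ.toHomUnits.ker := by
      refine Group.isSolvable_of_comm fun a b => ?_
      have hd : ∀ c : δ.toHomUnits.ker, ∀ i, dt f B B' (ρ ((c : π2.ker) : M).1.1) i = 1 := by
        intro c i
        have h1 : δ.toHomUnits (c : π2.ker) = 1 := c.2
        have h3 := congrArg Units.val h1
        exact congrFun h3 i
      apply Subtype.ext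
      apply Subtype.ext
      apply Subtype.ext
      apply Prod.ext
      · apply hinj
        show ρ (((a : π2.ker) : M).1.1 * ((b : π2.ker) : M).1.1) = ρ (((b : π2.ker) : M).1.1 * ((a : π2.ker) : M).1.1)
        rw [map_mul, map_mul]
        refine h.ext_B (fun i => ?_) fun i => ?_
        all_goals
          obtain ⟨p, q, e1, e2⟩ := h.form_of_dt (hiso _) (hmB (a : π2.ker) i) (hmC (a : π2.ker) i) (hd a i)
          obtain ⟨r, s, e3, e4⟩ := h.form_of_dt (hiso _) (hmB (b : π2.ker) i) (hmC (b : π2.ker) i) (hd b i)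
          rw [Module.End.mul_apply, Module.End.mul_apply]
          simp only [e1, e2, e3, e4, map_add, map_smul]
          module
      · have h1 : ((a : π2.ker) : M).1.2 = 1 := (a : π2.ker).2
        have h3 : ((b : π2.ker) : M).1.2 = 1 := (b : π2.ker).2
        show ((a : π2.ker) : M).1.2 * ((b : π2.ker) : M).1.2 = ((b : π2.ker) : M).1.2 * ((a : π2.ker) : M).1.2
        rw [h1, h3]
    have hab : Group.IsSolvable (Fin 4 → F)ˣ := Group.isSolvable_of_comm fun a b => mul_comm a b
    exact Group.isSolvable_of_ker_le_range δ.toHomUnits.ker.subtype δ.toHomUnits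
      (by rw [Subgroup.range_subtype])
  have hM : Group.IsSolvable M := Group.isSolvable_of_ker_le_range π2.ker.subtype π2 (by rw [Subgroup.range_subtype])
  exact Group.isSolvable_of_surjective hs

end Gram

end Cfsg.Agent.H574.RV.Oct
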