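import Cfsg.Agent.H574.RV.OctMain

/-!
# Explicit vectors and isometries of the 8-dimensional orthogonal space of plus type (helper574)
-/

set_option autoImplicit false
set_option linter.unusedSectionVars false

namespace Cfsg.Agent.H574.RV.Oct

open Module Cfsg.Agent.H556.Om

/-! ### Gram data -/

section Gram

variable {F : Type*} [Field F] {V : Type*} [AddCommGroup V] [Module F V]

/-- four orthogonal planes -/
structure Gram (f : V →ₗ[F] V →ₗ[F] F) (B B' : Fin 4 → V) : Prop where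
  two : (2 : F) ≠ 0
  three : (3 : F) ≠ 0
  symm : ∀ u v, f u v = f v u
  BB : ∀ i, f (B i) (B i) = 2
  BC : ∀ i, f (B i) (B' i) = -1
  CC : ∀ i, f (B' i) (B' i) = 2
  oBB : ∀ i j, i ≠ j → f (B i) (B j) = 0
  oBC : ∀ i j, i ≠ j → f (B i) (B' j) = 0
  oCC : ∀ i j, i ≠ j → f (B' i) (B' j) = 0
  zero : ∀ v, (∀ i, f (B i) v = 0) → (∀ i, f (B' i) v = 0) → v = 0

namespace Gram

variable {f : V →ₗ[F] V →ₗ[F] F} {B B' : Fin 4 → V} (h : Gram f B B')

/-- coordinates -/
def ca (f : V →ₗ[F] V →ₗ[F] F) (B B' : Fin 4 → V) (i : Fin 4) : V →ₗ[F] F :=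
  (3 : F)⁻¹ • ((2 : F) • f (B i) + f (B' i))

def cb (f : V →ₗ[F] V →ₗ[F] F) (B B' : Fin 4 → V) (i : Fin 4) : V →ₗ[F] F :=
  (3 : F)⁻¹ • (f (B i) + (2 : F) • f (B' i))

theorem ca_apply (i : Fin 4) (v : V) : ca f B B' i v = (3 : F)⁻¹ * (2 * f (B i) v + f (B' i) v) := rfl

theorem cb_apply (i : Fin 4) (v : V) : cb f B B' i v = (3 : F)⁻¹ * (f (B i) v + 2 * f (B' i) v) := rfl

include h

theorem CB (i : Fin 4) : f (B' i) (B i) = -1 := by rw [h.symm, h.BC]

theorem oCB (i j : Fin 4) (hij : i ≠ j) : f (B' i) (B j) = 0 := by rw [h.symm, h.oBC j i hij.symm]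

theorem fB (α β : Fin 4 → F) (i : Fin 4) : f (B i) (∑ j, (α j • B j + β j • B' j)) = 2 * α i - β i := by
  rw [map_sum, Finset.sum_eq_single i]
  · rw [map_add, map_smul, map_smul, h.BB, h.BC, smul_eq_mul, smul_eq_mul]
    ring
  · intro j _ hj
    rw [map_add, map_smul, map_smul, h.oBB i j hj.symm, h.oBC i j hj.symm, smul_zero, smul_zero, add_zero]
  · intro hi
    exact absurd (Finset.mem_univ i) hi

theorem fC (α β : Fin 4 → F) (i : Fin 4) : f (B' i) (∑ j, (α j • B j + β j • B' j)) = 2 * β i - α i := by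
  rw [map_sum, Finset.sum_eq_single i]
  · rw [map_add, map_smul, map_smul, h.CC, h.CB, smul_eq_mul, smul_eq_mul]
    ring
  · intro j _ hj
    rw [map_add, map_smul, map_smul, h.oCB i j hj.symm, h.oCC i j hj.symm, smul_zero, smul_zero, add_zero]
  · intro hi
    exact absurd (Finset.mem_univ i) hi

theorem expand (v : V) : v = ∑ i, (ca f B B' i v • B i + cb f B B' i v • B' i) := by
  have h3 : (3 : F)⁻¹ * 3 = 1 := inv_mul_cancel₀ h.three
  rw [← sub_eq_zero]
  apply h.zero
  · intro i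
    rw [map_sub, h.fB (fun i => ca f B B' i v) (fun i => cb f B B' i v), ca_apply, cb_apply]
    linear_combination (-f (B i) v) * h3
  · intro i
    rw [map_sub, h.fC (fun i => ca f B B' i v) (fun i => cb f B B' i v), ca_apply, cb_apply]
    linear_combination (-f (B' i) v) * h3

theorem ext_B {V' : Type*} [AddCommGroup V'] [Module F V'] {φ ψ : V →ₗ[F] V'} (h1 : ∀ i, φ (B i) = ψ (B i))
    (h3 : ∀ i, φ (B' i) = ψ (B' i)) : φ = ψ := by
  apply LinearMap.ext
  intro v
  rw [h.expand v, map_sum, map_sum]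
  refine Finset.sum_congr rfl fun i _ => ?_
  rw [map_add, map_add, map_smul, map_smul, map_smul, map_smul, h1, h3]

omit h in
/-- the rotation of a plane -/
noncomputable def Yl (f : V →ₗ[F] V →ₗ[F] F) (B B' : Fin 4 → V) (i : Fin 4) : Module.End F V :=
  1 - (f (B i) + f (B' i)).smulRight (B i) - (f (B' i)).smulRight (B' i)

omit h in
theorem Yl_apply (i : Fin 4) (v : V) :
    Yl f B B' i v = v - (f (B i) v + f (B' i) v) • B i - f (B' i) v • B' i := by
  simp [Yl]

theorem Yl_cube (i : Fin 4) : Yl f B B' i * Yl f B B' i * Yl f B B' i = 1 := by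
  apply LinearMap.ext
  intro v
  rw [Module.End.mul_apply, Module.End.mul_apply, Module.End.one_apply]
  have key : ∀ v, f (B i) (Yl f B B' i v) = -f (B i) v - f (B' i) v ∧ f (B' i) (Yl f B B' i v) = f (B i) v := by
    intro v
    rw [Yl_apply]
    constructor
    · rw [map_sub, map_sub, map_smul, map_smul, h.BB, h.BC, smul_eq_mul, smul_eq_mul]
      ring
    · rw [map_sub, map_sub, map_smul, map_smul, h.CB, h.CC, smul_eq_mul, smul_eq_mul]
      ring
  rw [Yl_apply i (Yl f B B' i (Yl f B B' i v)), (key (Yl f B B' i v)).1, (key (Yl f B B' i v)).2, (key v).1, (key v).2,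
    Yl_apply i (Yl f B B' i v), (key v).1, (key v).2, Yl_apply i v]
  module

theorem Yl_iso (i : Fin 4) (u v : V) : f (Yl f B B' i u) (Yl f B B' i v) = f u v := by
  rw [Yl_apply, Yl_apply]
  have e1 := h.symm u (B i)
  have e2 := h.symm u (B' i)
  simp only [map_sub, map_smul, LinearMap.sub_apply, LinearMap.smul_apply, smul_eq_mul, h.BB, h.BC, h.CB, h.CC, e1, e2]
  ring

omit h in
/-- the permutation of the planes -/
noncomputable def Wl (f : V →ₗ[F] V →ₗ[F] F) (B B' : Fin 4 → V) : Module.End F V :=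
  ∑ i, ((ca f B B' i).smulRight (B (tau i)) + (cb f B B' i).smulRight (B' (tau i)))

omit h in
theorem Wl_apply (v : V) : Wl f B B' v = ∑ i, (ca f B B' i v • B (tau i) + cb f B B' i v • B' (tau i)) := by
  simp [Wl, LinearMap.sum_apply]

theorem Wl_B (i : Fin 4) : Wl f B B' (B i) = B (tau i) := by
  have h3 : (3 : F)⁻¹ * 3 = 1 := inv_mul_cancel₀ h.three
  rw [Wl_apply, Finset.sum_eq_single i]
  · rw [ca_apply, cb_apply, h.BB, h.CB]
    have e1 : (3 : F)⁻¹ * (2 * 2 + -1) = 1 := by linear_combination h3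
    have e2 : (3 : F)⁻¹ * (2 + 2 * -1) = 0 := by ring
    rw [e1, e2, one_smul, zero_smul, add_zero]
  · intro j _ hj
    rw [ca_apply, cb_apply, h.oBB j i hj, h.oCB j i hj]
    simp
  · intro hi
    exact absurd (Finset.mem_univ i) hi

theorem Wl_C (i : Fin 4) : Wl f B B' (B' i) = B' (tau i) := by
  have h3 : (3 : F)⁻¹ * 3 = 1 := inv_mul_cancel₀ h.three
  rw [Wl_apply, Finset.sum_eq_single i]
  · rw [ca_apply, cb_apply, h.BC, h.CC]
    have e1 : (3 : F)⁻¹ * (2 * -1 + 2) = 0 := by ring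
    have e2 : (3 : F)⁻¹ * (-1 + 2 * 2) = 1 := by linear_combination h3
    rw [e1, e2, one_smul, zero_smul, zero_add]
  · intro j _ hj
    rw [ca_apply, cb_apply, h.oBC j i hj, h.oCC j i hj]
    simp
  · intro hi
    exact absurd (Finset.mem_univ i) hi

omit h in
theorem tau_cube : ∀ i, tau (tau (tau i)) = i := by decide

omit h in
theorem tau_inj : Function.Injective tau := by decide

theorem Wl_cube : Wl f B B' * Wl f B B' * Wl f B B' = 1 := by
  refine h.ext_B (fun i => ?_) fun i => ?_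
  · rw [Module.End.mul_apply, Module.End.mul_apply, h.Wl_B, h.Wl_B, h.Wl_B, tau_cube, Module.End.one_apply]
  · rw [Module.End.mul_apply, Module.End.mul_apply, h.Wl_C, h.Wl_C, h.Wl_C, tau_cube, Module.End.one_apply]

theorem Wl_iso (u v : V) : f (Wl f B B' u) (Wl f B B' v) = f u v := by
  have key : f.compl₁₂ (Wl f B B') (Wl f B B') = f := by
    refine h.ext_B (fun i => ?_) fun i => ?_
    · refine h.ext_B (fun j => ?_) fun j => ?_
      · rw [LinearMap.compl₁₂_apply, h.Wl_B, h.Wl_B]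
        by_cases hij : i = j
        · subst hij; rw [h.BB, h.BB]
        · rw [h.oBB i j hij, h.oBB _ _ fun h' => hij (tau_inj h')]
      · rw [LinearMap.compl₁₂_apply, h.Wl_B, h.Wl_C]
        by_cases hij : i = j
        · subst hij; rw [h.BC, h.BC]
        · rw [h.oBC i j hij, h.oBC _ _ fun h' => hij (tau_inj h')]
    · refine h.ext_B (fun j => ?_) fun j => ?_
      · rw [LinearMap.compl₁₂_apply, h.Wl_C, h.Wl_B]
        by_cases hij : i = j
        · subst hij; rw [h.CB, h.CB]
        · rw [h.oCB i j hij, h.oCB _ _ fun h' => hij (tau_inj h')]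
      · rw [LinearMap.compl₁₂_apply, h.Wl_C, h.Wl_C]
        by_cases hij : i = j
        · subst hij; rw [h.CC, h.CC]
        · rw [h.oCC i j hij, h.oCC _ _ fun h' => hij (tau_inj h')]
  exact LinearMap.congr_fun (LinearMap.congr_fun key u) v

/-- commutation of the rotations -/
theorem Yl_comm (i j : Fin 4) : Yl f B B' i * Yl f B B' j = Yl f B B' j * Yl f B B' i := by
  by_cases hij : i = j
  · subst hij; rfl
  · apply LinearMap.ext
    intro v
    rw [Module.End.mul_apply, Module.End.mul_apply, Yl_apply i, Yl_apply j (Yl f B B' i v), Yl_apply j v, Yl_apply i v]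
    have hji : j ≠ i := fun h' => hij h'.symm
    simp only [map_sub, map_smul, h.oBB i j hij, h.oBC i j hij, h.oCB i j hij, h.oCC i j hij, h.oBB j i hji,
      h.oBC j i hji, h.oCB j i hji, h.oCC j i hji]
    module

/-- `W Y_i = Y_{τ i} W` -/
theorem Wl_Yl (i : Fin 4) : Wl f B B' * Yl f B B' i = Yl f B B' (tau i) * Wl f B B' := by
  refine h.ext_B (fun j => ?_) fun j => ?_
  · rw [Module.End.mul_apply, Module.End.mul_apply, h.Wl_B, Yl_apply, Yl_apply]
    by_cases hij : i = j
    · subst hij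
      simp only [map_sub, map_smul, h.Wl_B, h.Wl_C, h.BB, h.CB]
    · rw [h.oBB i j hij, h.oCB i j hij, h.oBB _ _ fun h' => hij (tau_inj h'), h.oCB _ _ fun h' => hij (tau_inj h')]
      simp only [map_sub, map_smul, h.Wl_B, h.Wl_C]
  · rw [Module.End.mul_apply, Module.End.mul_apply, h.Wl_C, Yl_apply, Yl_apply]
    by_cases hij : i = j
    · subst hij
      simp only [map_sub, map_smul, h.Wl_B, h.Wl_C, h.BC, h.CC]
    · rw [h.oBC i j hij, h.oCC i j hij, h.oBC _ _ fun h' => hij (tau_inj h'), h.oCC _ _ fun h' => hij (tau_inj h')]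
      simp only [map_sub, map_smul, h.Wl_B, h.Wl_C]

end Gram

end Gram

/-! ### The vectors -/

section Vec

variable {F : Type*} [Field F] {V : Type*} [AddCommGroup V] [Module F V] {f : V →ₗ[F] V →ₗ[F] F}
  {e : Fin 4 ⊕ Fin 4 → V}

/-- a frame of full length spans -/
theorem frame_span {J : Type*} [Fintype J] [DecidableEq J] {e : J → V} (h2 : (2 : F) ≠ 0) (hF : Frame f e)
    [FiniteDimensional F V] (hd : finrank F V = Fintype.card J) {v : V} (hv : ∀ j, f (e j) v = 0) : v = 0 := by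
  have h1 : Submodule.span F (Set.range e) = ⊤ :=
    (hF.linearIndependent h2).span_eq_top_of_card_eq_finrank' hd.symm
  have h3 : v ∈ Submodule.span F (Set.range e) := by rw [h1]; exact Submodule.mem_top
  obtain ⟨c, rfl⟩ := (Submodule.mem_span_range_iff_exists_fun F).mp h3
  refine Finset.sum_eq_zero fun i _ => ?_
  have h4 := hv i
  rw [map_sum, Finset.sum_eq_single i] at h4
  · rw [map_smul, hF.self, smul_eq_mul] at h4
    rw [(mul_eq_zero.mp h4).resolve_right h2, zero_smul]
  · intro j _ hj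
    rw [map_smul, hF.orth i j hj.symm, smul_zero]
  · intro hi
    exact absurd (Finset.mem_univ i) hi

/-- the second vectors -/
def gn (e : Fin 4 ⊕ Fin 4 → V) (α β : F) : Fin 4 → V :=
  ![α • e (.inr 0) + β • e (.inr 1), (-β) • e (.inr 0) + α • e (.inr 1),
    α • e (.inr 2) + β • e (.inr 3), (-β) • e (.inr 2) + α • e (.inr 3)]

theorem gn0 (α β : F) : gn e α β 0 = α • e (.inr 0) + β • e (.inr 1) := rfl
theorem gn1 (α β : F) : gn e α β 1 = (-β) • e (.inr 0) + α • e (.inr 1) := rfl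
theorem gn2 (α β : F) : gn e α β 2 = α • e (.inr 2) + β • e (.inr 3) := rfl
theorem gn3 (α β : F) : gn e α β 3 = (-β) • e (.inr 2) + α • e (.inr 3) := rfl

theorem four (i : Fin 4) : i = 0 ∨ i = 1 ∨ i = 2 ∨ i = 3 := by
  revert i
  decide

theorem f_ll (hF : Frame f e) (i j : Fin 4) : f (e (.inl i)) (e (.inl j)) = if i = j then 2 else 0 := by
  rw [hF.form]
  simp only [Sum.inl.injEq]

theorem f_rr (hF : Frame f e) (i j : Fin 4) : f (e (.inr i)) (e (.inr j)) = if i = j then 2 else 0 := by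
  rw [hF.form]
  simp only [Sum.inr.injEq]

theorem f_lr (hF : Frame f e) (i j : Fin 4) : f (e (.inl i)) (e (.inr j)) = 0 := hF.orth _ _ (by simp)

theorem f_rl (hF : Frame f e) (i j : Fin 4) : f (e (.inr i)) (e (.inl j)) = 0 := hF.orth _ _ (by simp)

theorem f_l_gn (hF : Frame f e) (α β : F) (i j : Fin 4) : f (e (.inl i)) (gn e α β j) = 0 := by
  rcases four j with rfl | rfl | rfl | rfl <;> simp only [gn0, gn1, gn2, gn3, map_add, map_smul, f_lr hF, smul_zero,
    add_zero]

theorem f_gn_l (hF : Frame f e) (α β : F) (i j : Fin 4) : f (gn e α β j) (e (.inl i)) = 0 := by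
  rcases four j with rfl | rfl | rfl | rfl <;> simp only [gn0, gn1, gn2, gn3, map_add, map_smul, f_rl hF, smul_zero,
    add_zero, LinearMap.add_apply, LinearMap.smul_apply]

theorem f_gn_gn (hF : Frame f e) {α β : F} (hκ : α * α + β * β = 3) (i j : Fin 4) :
    f (gn e α β i) (gn e α β j) = if i = j then 6 else 0 := by
  rcases four i with rfl | rfl | rfl | rfl <;> rcases four j with rfl | rfl | rfl | rfl <;>
    simp only [gn0, gn1, gn2, gn3, map_add, map_smul, f_rr hF, smul_eq_mul, LinearMap.add_apply, LinearMap.smul_apply,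
      Fin.reduceEq, if_true, if_false] <;>
    first
      | ring1
      | linear_combination 2 * hκ

theorem zero_of (h3 : (3 : F) ≠ 0) {α β : F} (hκ : α * α + β * β = 3) {v : V}
    (hs : ∀ v, (∀ j, f (e j) v = 0) → v = 0)
    (h1 : ∀ i, f (e (.inl i)) v = 0) (h4 : ∀ i, f (gn e α β i) v = 0) : v = 0 := by
  have key : ∀ a b : F, α * a + β * b = 0 → -β * a + α * b = 0 → a = 0 ∧ b = 0 := by
    intro a b ha hb
    constructor
    · have : (3 : F) * a = 0 := by linear_combination α * ha - β * hb - a * hκ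
      exact (mul_eq_zero.mp this).resolve_left h3
    · have : (3 : F) * b = 0 := by linear_combination β * ha + α * hb - b * hκ
      exact (mul_eq_zero.mp this).resolve_left h3
  have e0 := h4 0
  have e1 := h4 1
  have e2 := h4 2
  have e3 := h4 3
  simp only [gn0, gn1, gn2, gn3, map_add, map_smul, LinearMap.add_apply, LinearMap.smul_apply, smul_eq_mul]
    at e0 e1 e2 e3
  obtain ⟨k0, k1⟩ := key _ _ e0 e1
  obtain ⟨k2, k3⟩ := key _ _ e2 e3
  apply hs
  rintro (k | k)
  · exact h1 k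
  · rcases four k with rfl | rfl | rfl | rfl
    · exact k0
    · exact k1
    · exact k2
    · exact k3

/-- the planes -/
def b1 (e : Fin 4 ⊕ Fin 4 → V) (i : Fin 4) : V := e (.inl i)

def b2 (e : Fin 4 ⊕ Fin 4 → V) (α β : F) (i : Fin 4) : V := (2 : F)⁻¹ • (gn e α β i - e (.inl i))

theorem gram (h2 : (2 : F) ≠ 0) (h3 : (3 : F) ≠ 0) (hsym : ∀ u v, f u v = f v u) (hF : Frame f e)
    (hs : ∀ v, (∀ j, f (e j) v = 0) → v = 0) {α β : F} (hκ : α * α + β * β = 3) : Gram f (b1 e) (b2 e α β) := by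
  have h22 : (2 : F)⁻¹ * 2 = 1 := inv_mul_cancel₀ h2
  refine ⟨h2, h3, hsym, ?_, ?_, ?_, ?_, ?_, ?_, ?_⟩
  · intro i
    rw [b1, f_ll hF, if_pos rfl]
  · intro i
    rw [b1, b2, map_smul, map_sub, f_l_gn hF, f_ll hF, if_pos rfl, smul_eq_mul]
    linear_combination -h22
  · intro i
    simp only [b2, map_smul, map_sub, LinearMap.smul_apply, LinearMap.sub_apply, f_l_gn hF, f_gn_l hF, f_gn_gn hF hκ,
      f_ll hF, if_true, smul_eq_mul]
    linear_combination (4 * (2 : F)⁻¹ + 2) * h22
  · intro i j hij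
    rw [b1, b1, f_ll hF, if_neg hij]
  · intro i j hij
    rw [b1, b2, map_smul, map_sub, f_l_gn hF, f_ll hF, if_neg hij, sub_zero, smul_zero]
  · intro i j hij
    simp only [b2, map_smul, map_sub, LinearMap.smul_apply, LinearMap.sub_apply, f_l_gn hF, f_gn_l hF, f_gn_gn hF hκ,
      f_ll hF, if_neg hij, smul_eq_mul]
    ring
  · intro v hv1 hv2
    refine zero_of h3 hκ hs hv1 fun i => ?_
    have h4 := hv2 i
    have h5 := hv1 i
    rw [b2, map_smul, map_sub, LinearMap.smul_apply, LinearMap.sub_apply, smul_eq_mul] at h4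
    rw [b1] at h5
    rw [h5, sub_zero] at h4
    exact (mul_eq_zero.mp h4).resolve_left (inv_ne_zero h2)

end Vec

end Cfsg.Agent.H574.RV.Oct
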