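import Cfsg.Agent.H574.RV.PslFour
import Cfsg.Agent.H574.RV.PslSub
import Cfsg.Agent.S0799
import Cfsg.Agent.S2475

/-!
# `DB` fails for `PSL_2(q)`, `p ≥ 5`, `2, 3 ∈ π`, `p ∉ π`
-/

set_option autoImplicit false

open Matrix Cfsg

namespace Cfsg.Agent.H574.RV

open Cfsg.Agent.H988.CPi Cfsg.Agent.H571.RV
open Cfsg.Agent.ClassicalGeometry.PSL2Basic
open Cfsg.Agent.ClassicalGeometry.AutPSL.Auto (cj lift coe_cj lift_pr)
open Cfsg.Agent.ClassicalGeometry.AutPSL.Root (pr pr_surjective pr_eq_one_iff)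

theorem exists_decomp (π : Set ℕ) (n : ℕ) (hn : n ≠ 0) : ∃ a b : ℕ, n = a * b ∧ PiN π a ∧ PiN' π b := by
  classical
  induction n using induction_on_primes with
  | zero => exact absurd rfl hn
  | one =>
    refine ⟨1, 1, rfl, ?_, ?_⟩
    · intro p hp hd; exact absurd (Nat.dvd_one.mp hd) hp.one_lt.ne'
    · intro p hp _ hd; exact absurd (Nat.dvd_one.mp hd) hp.one_lt.ne'
  | prime_mul p m hp ih =>
    obtain ⟨a, b, h1, h2, h3⟩ := ih (by rintro rfl; exact hn (mul_zero p))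
    by_cases hpπ : p ∈ π
    · refine ⟨p * a, b, by rw [h1]; ring, ?_, h3⟩
      intro q hq hd
      rcases hq.dvd_mul.1 hd with h | h
      · rw [(Nat.prime_dvd_prime_iff_eq hq hp).1 h]; exact hpπ
      · exact h2 q hq h
    · refine ⟨a, p * b, by rw [h1]; ring, h2, ?_⟩
      intro q hq hqπ hd
      rcases hq.dvd_mul.1 hd with h | h
      · rw [(Nat.prime_dvd_prime_iff_eq hq hp).1 h] at hqπ; exact hpπ hqπ
      · exact h3 q hq hqπ h

section abstract

variable {S : Type*} [Group S]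

/-- all Hall subgroups are isomorphic -/
theorem DB.iso {π : Set ℕ} (h : DB π S) {H K : Subgroup S} (hH : IsPiHall π H) (hK : IsPiHall π K)
    {Q : Type*} [Group Q] (e : H ≃* Q) : Nonempty (K ≃* Q) := by
  obtain ⟨𝒜, -, htr, -⟩ := h.out
  obtain ⟨α, -, rfl⟩ := htr H K hH hK
  exact ⟨((α : MulAut S).subgroupMap H).symm.trans e⟩

/-- every `π`-subgroup embeds in the isomorphism type of the Hall subgroups -/
theorem DB.emb {π : Set ℕ} (h : DB π S) {H : Subgroup S} (hH : IsPiHall π H) {Q : Type*} [Group Q]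
    (e : H ≃* Q) {X : Subgroup S} (hX : PiN π (Nat.card X)) :
    ∃ f : X →* Q, Function.Injective f := by
  obtain ⟨K, hK, hXK⟩ := h.dom X hX
  obtain ⟨e'⟩ := DB.iso h hH hK e
  exact ⟨e'.toMonoidHom.comp (Subgroup.inclusion hXK),
    e'.injective.comp (Subgroup.inclusion_injective hXK)⟩

end abstract

theorem alt4_fact : ∀ x w : alternatingGroup (Fin 4), x ^ 3 = 1 → w * x * w⁻¹ = x⁻¹ → x = 1 := by
  decide +kernel

theorem alt5_fact : ∀ x : alternatingGroup (Fin 5), x ^ 2 = 1 ∨ x ^ 3 = 1 ∨ x ^ 5 = 1 := by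
  decide +kernel

theorem alt5_order (x : alternatingGroup (Fin 5)) : orderOf x ≤ 5 := by
  rcases alt5_fact x with h | h | h
  · exact (Nat.le_of_dvd (by norm_num) (orderOf_dvd_of_pow_eq_one h)).trans (by norm_num)
  · exact (Nat.le_of_dvd (by norm_num) (orderOf_dvd_of_pow_eq_one h)).trans (by norm_num)
  · exact (Nat.le_of_dvd (by norm_num) (orderOf_dvd_of_pow_eq_one h)).trans (by norm_num)

variable {F : Type*} [Field F]

/-- `DB` fails for `PSL_2(q)`. -/
theorem not_DB_PSL2 [Finite F] (p : ℕ) [hp : Fact p.Prime] [CharP F p] (h5 : 5 ≤ p) {π : Set ℕ}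
    (p2 : 2 ∈ π) (p3 : 3 ∈ π) (hpπ : p ∉ π) : ¬ DB π (Matrix.ProjectiveSpecialLinearGroup (Fin 2) F) := by
  intro hDB
  have := Fintype.ofFinite F
  have hne : ∀ k : ℕ, k ≠ 0 → k < 5 → ((k : ℕ) : F) ≠ 0 := by
    intro k hk0 hk h1
    rw [CharP.cast_eq_zero_iff F p] at h1
    have := Nat.le_of_dvd (Nat.pos_of_ne_zero hk0) h1
    omega
  have h20 : (2 : F) ≠ 0 := by exact_mod_cast hne 2 (by norm_num) (by norm_num)
  have h30 : (3 : F) ≠ 0 := by exact_mod_cast hne 3 (by norm_num) (by norm_num)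
  have hodd : Odd (Fintype.card F) := (two_ne_zero_iff_odd F).1 h20
  have hpq : p ∣ Fintype.card F := by
    obtain ⟨n, -, hn⟩ := FiniteField.card F p
    rw [hn]
    exact dvd_pow_self p n.ne_zero
  have hq5 : 5 ≤ Fintype.card F := h5.trans (Nat.le_of_dvd Fintype.card_pos hpq)
  obtain ⟨x, y, hx, hy, hxy, hne'⟩ := exists_braid (F := F) h20
  obtain ⟨H, hH, hXH⟩ := hDB.dom (Subgroup.closure {x, y}) (piN_braid p2 p3 hx hxy)
  have hxH : x ∈ H := hXH (Subgroup.subset_closure (Set.mem_insert _ _))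
  have hyH : y ∈ H := hXH (Subgroup.subset_closure (Set.mem_insert_of_mem _ rfl))
  have hHp : ¬ p ∣ Nat.card H := fun h => hpπ (hH.1 p hp.out h)
  have hx' : (⟨x, hxH⟩ : H) ^ 3 = 1 := Subtype.ext hx
  have hy' : (⟨y, hyH⟩ : H) ^ 3 = 1 := Subtype.ext hy
  have hxy' : (⟨x, hxH⟩ : H) * ⟨y, hyH⟩ ≠ ⟨y, hyH⟩ * ⟨x, hxH⟩ := fun h => hne' (congrArg Subtype.val h)
  rcases Cfsg.Agent.S0799.result rfl p H with ⟨k, -, (⟨hc, -⟩ | ⟨⟨e⟩⟩)⟩ | ⟨P, K, hK, ⟨e⟩⟩ | ⟨⟨e⟩⟩ | ⟨⟨e⟩⟩ | ⟨⟨e⟩⟩ |
    ⟨K, _, _, m, hm, h⟩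
  · -- cyclic
    obtain ⟨g, hg⟩ := hc.exists_generator
    obtain ⟨i, hi⟩ := hg ⟨x, hxH⟩
    obtain ⟨j, hj⟩ := hg ⟨y, hyH⟩
    apply hxy'
    rw [← hi, ← hj]
    exact (Commute.refl g).zpow_zpow i j
  · -- dihedral
    apply hxy'
    apply e.injective
    rw [map_mul, map_mul]
    exact dihedral_comm (by rw [← map_pow, hx', map_one]) (by rw [← map_pow, hy', map_one])
  · -- Borel
    apply hxy'
    apply e.injective
    apply Subtype.ext
    rw [map_mul, map_mul, Subgroup.coe_mul, Subgroup.coe_mul]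
    refine comm_of_le_borel p P K hK ?_ (e ⟨x, hxH⟩).2 (e ⟨y, hyH⟩).2
    rwa [← Nat.card_congr e.toEquiv]
  · -- `A_4`
    obtain ⟨t, w, ht, ht1, hw, hwt⟩ := exists_inverted (F := F) h20 h30
    have hX : PiN π (Nat.card (Subgroup.zpowers w ⊔ Subgroup.zpowers t :
        Subgroup (Matrix.ProjectiveSpecialLinearGroup (Fin 2) F))) := by
      apply H571.DExt.piN_sup
      · rw [Subgroup.zpowers_le]
        exact zpowers_normalizes hwt
      · refine piN_zpowers hw ?_
        intro q hq hd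
        rw [(Nat.prime_dvd_prime_iff_eq hq Nat.prime_two).1 hd]; exact p2
      · refine piN_zpowers ht ?_
        intro q hq hd
        rw [(Nat.prime_dvd_prime_iff_eq hq Nat.prime_three).1 hd]; exact p3
    obtain ⟨f, hf⟩ := DB.emb hDB hH e hX
    have htX : t ∈ (Subgroup.zpowers w ⊔ Subgroup.zpowers t : Subgroup _) :=
      le_sup_right (a := Subgroup.zpowers w) (Subgroup.mem_zpowers t)
    have hwX : w ∈ (Subgroup.zpowers w ⊔ Subgroup.zpowers t : Subgroup _) :=
      le_sup_left (b := Subgroup.zpowers t) (Subgroup.mem_zpowers w)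
    apply ht1
    have e1 := alt4_fact (f ⟨t, htX⟩) (f ⟨w, hwX⟩)
      (by rw [← map_pow]; exact (congrArg f (Subtype.ext ht)).trans (map_one f))
      (by rw [← map_mul, ← map_inv, ← map_mul, ← map_inv]; exact congrArg f (Subtype.ext hwt))
    have e2 : (⟨t, htX⟩ : (Subgroup.zpowers w ⊔ Subgroup.zpowers t : Subgroup _)) = 1 :=
      hf (e1.trans (map_one f).symm)
    exact congrArg Subtype.val e2
  · -- `S_4`
    obtain ⟨u, hu⟩ : ∃ u : F, ¬ IsSquare u := by
      apply FiniteField.exists_nonsquare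
      intro h
      have h1 : CharP F 2 := by rw [← h]; exact ringChar.charP F
      exact h20 (CharTwo.two_eq_zero)
    have hu0 : u ≠ 0 := by rintro rfl; exact hu (IsSquare.zero)
    have hdet : (!![0, -u; 1, 0] : Matrix (Fin 2) (Fin 2) F).det = u := by
      rw [det_fin_two_of]; ring
    let x0 : GL (Fin 2) F := Matrix.GeneralLinearGroup.mkOfDetNeZero !![0, -u; 1, 0] (by rw [hdet]; exact hu0)
    have hx0 : (x0 : Matrix (Fin 2) (Fin 2) F) = !![0, -u; 1, 0] := rfl
    have hsq : (x0 : Matrix (Fin 2) (Fin 2) F) * (x0 : Matrix (Fin 2) (Fin 2) F) = -(u • 1) := by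
      rw [hx0]
      ext i j
      fin_cases i <;> fin_cases j <;> simp
    have hcj : cj (x0 * x0) = 1 := by
      apply MulEquiv.ext
      intro g
      apply Subtype.ext
      rw [coe_cj]
      change ((x0 * x0 : GL (Fin 2) F) : Matrix (Fin 2) (Fin 2) F) * g.1 *
        (((x0 * x0)⁻¹ : GL (Fin 2) F) : Matrix (Fin 2) (Fin 2) F) = g.1
      have h1 : ((x0 * x0 : GL (Fin 2) F) : Matrix (Fin 2) (Fin 2) F) * g.1 =
          g.1 * ((x0 * x0 : GL (Fin 2) F) : Matrix (Fin 2) (Fin 2) F) := by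
        rw [Units.val_mul, hsq]
        simp
      rw [h1, mul_assoc, ← Units.val_mul, mul_inv_cancel, Units.val_one, mul_one]
    obtain ⟨𝒜, hinn, htr, hidx⟩ := hDB.out
    refine hidx H hH 2 Nat.prime_two p2 (two_dvd_relIndex hinn htr (δ := lift (cj x0)) ?_ ?_ hH)
    · rw [← map_mul, ← map_mul, hcj, map_one]
      exact one_mem _
    · intro K hK s
      obtain ⟨e'⟩ := DB.iso hDB hH hK e
      refine not_stab_of_S4 h20 ?_ e' s
      rw [hx0, hdet]
      exact hu
  · -- `A_5`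
    obtain ⟨r, hr⟩ := hodd
    have hr0 : r ≠ 0 := by rintro rfl; omega
    obtain ⟨a1, a2, ha, ha1, ha2⟩ := exists_decomp π r hr0
    obtain ⟨b1, b2, hb, hb1, hb2⟩ := exists_decomp π (r + 1) (by omega)
    have hcard : Nat.card (Matrix.ProjectiveSpecialLinearGroup (Fin 2) F) =
        (2 * (a1 * b1)) * (Fintype.card F * (a2 * b2)) := by
      have h1 := card_PSL2_odd F ⟨r, hr⟩
      have h2 : Fintype.card F ^ 2 - 1 = 2 * (2 * (r * (r + 1))) := by
        rw [hr]
        apply Nat.sub_eq_of_eq_add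
        ring
      rw [h2] at h1
      have h3 : Nat.card (Matrix.ProjectiveSpecialLinearGroup (Fin 2) F) =
          Fintype.card F * (2 * (r * (r + 1))) := by
        apply Nat.eq_of_mul_eq_mul_right (show 0 < 2 by norm_num)
        rw [h1]; ring
      rw [h3, ha, ← ha, hb, ← hb]
      nth_rewrite 1 [ha]
      nth_rewrite 1 [hb]
      ring
    have h60 : Nat.card H = 60 := by
      rw [Nat.card_congr e.toEquiv, nat_card_alternatingGroup]
      simp [Nat.factorial]
    have hqn : PiN' π (Fintype.card F) := by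
      intro q hq hqπ hd
      obtain ⟨n, -, hn⟩ := FiniteField.card F p
      rw [hn] at hd
      rw [(Nat.prime_dvd_prime_iff_eq hq hp.out).1 (hq.dvd_of_dvd_pow hd)] at hqπ
      exact hpπ hqπ
    have hP2 : PiN π 2 := by
      intro q hq hd
      rw [(Nat.prime_dvd_prime_iff_eq hq Nat.prime_two).1 hd]; exact p2
    have huniq := mul_unique (hP2.mul (ha1.mul hb1)) (hqn.mul (ha2.mul hb2)) hH.1 hH.2
      (hcard.symm.trans (Subgroup.card_mul_index H).symm)
    have hgcd : Nat.gcd 2 (Fintype.card F - 1) = 2 := by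
      apply Nat.gcd_eq_left
      rw [hr]
      exact ⟨r, by omega⟩
    have hspec := Cfsg.Agent.S2475.result p (F := F) (by omega)
    rw [hgcd] at hspec
    have hord : ∀ n, PiN π n → (n ∣ (Fintype.card F - 1) / 2 ∨ n ∣ (Fintype.card F + 1) / 2) → n ≤ 5 := by
      intro n hn hd
      have h1 : n ∈ Set.range (orderOf : Matrix.ProjectiveSpecialLinearGroup (Fin 2) F → ℕ) := by
        rw [hspec]; exact Or.inr hd
      obtain ⟨g, hg⟩ := h1
      have hX : PiN π (Nat.card (Subgroup.zpowers g)) := by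
        rw [Nat.card_zpowers, hg]; exact hn
      obtain ⟨f, hf⟩ := DB.emb hDB hH e hX
      have h2 := alt5_order (f ⟨g, Subgroup.mem_zpowers g⟩)
      rw [orderOf_injective f hf, Subgroup.orderOf_mk, hg] at h2
      exact h2
    have h1 : a1 ≤ 5 := hord a1 ha1 (Or.inl (by rw [hr]; exact ⟨a2, by omega⟩))
    have h2 : b1 ≤ 5 := hord b1 hb1 (Or.inr (by rw [hr]; exact ⟨b2, by omega⟩))
    have h3 : 2 * (a1 * b1) = 60 := by rw [← h60]; exact huniq
    nlinarith
  · -- subfield groups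
    apply hHp
    have hK : p ∣ Fintype.card K := by
      apply hp.out.dvd_of_dvd_pow (n := m)
      rw [hm]; exact hpq
    have hKodd : Odd (Fintype.card K) := by
      rw [← hm] at hodd
      exact Nat.odd_pow_iff (by rintro rfl; rw [pow_zero] at hm; omega) |>.1 hodd
    rcases h with ⟨⟨e⟩⟩ | ⟨⟨e⟩⟩
    · rw [Nat.card_congr e.toEquiv]
      have h1 := card_PSL2_odd K hKodd
      have h2 : p ∣ Nat.card (Matrix.ProjectiveSpecialLinearGroup (Fin 2) K) * 2 := by
        rw [h1]; exact hK.mul_right _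
      rcases hp.out.dvd_mul.1 h2 with h3 | h3
      · exact h3
      · exfalso
        have := Nat.le_of_dvd (by norm_num) h3
        omega
    · rw [Nat.card_congr e.toEquiv, card_PGL2]
      exact hK.mul_right _

end Cfsg.Agent.H574.RV
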