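import Cfsg.Agent.H554.RV.Uni
import Cfsg.Agent.H574.RV.SpKill
import Cfsg.Agent.H574.RV.PslKill

/-!
# Row R5 for linear and symplectic groups
-/

set_option autoImplicit false

open Cfsg

namespace Cfsg.Agent.H574.RV

open Cfsg.Agent.H571.RV

universe u

theorem five_le {π : Set ℕ} {p : ℕ} (h2 : 2 ∈ π) (h3 : 3 ∈ π) (hp : p.Prime) (hpπ : p ∉ π) : 5 ≤ p := by
  have h6 : p ≠ 2 := fun h => hpπ (h ▸ h2)
  have h7 : p ≠ 3 := fun h => hpπ (h ▸ h3)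
  have h8 := hp.two_le
  by_contra h9
  have h10 : p = 4 := by omega
  rw [h10] at hp
  exact absurd hp (by norm_num)

/-- **Row R5, symplectic groups.** -/
theorem psp_row {π : Set ℕ} {S : Type u} [Group S] {p : ℕ} (h2 : 2 ∈ π) (h3 : 3 ∈ π) (hp : p.Prime)
    (hpπ : p ∉ π) (h : IsPSpChar p S) : ¬ DB π S := by
  have : Fact p.Prime := ⟨hp⟩
  obtain ⟨F, _, _, _, m, hm, -, ⟨e⟩⟩ := h
  intro h
  exact not_DB_PSp hm p (five_le h2 h3 hp hpπ) h2 h3 hpπ (Cfsg.Agent.H808.RV.DB.congr e h)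

/-- **Row R5, `PSL_2(q)`.** -/
theorem psl2_row {π : Set ℕ} {S : Type u} [Group S] {p : ℕ} (h2 : 2 ∈ π) (h3 : 3 ∈ π) (hp : p.Prime)
    (hpπ : p ∉ π) {F : Type*} [Field F] [Finite F] [CharP F p]
    (e : S ≃* Matrix.ProjectiveSpecialLinearGroup (Fin 2) F) : ¬ DB π S := by
  have : Fact p.Prime := ⟨hp⟩
  intro h
  exact not_DB_PSL2 p (five_le h2 h3 hp hpπ) h2 h3 hpπ (Cfsg.Agent.H808.RV.DB.congr e h)

/-- **Row R5, all linear groups.** -/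
theorem psl_all_row {π : Set ℕ} {S : Type u} [Group S] {p : ℕ} (h2 : 2 ∈ π) (h3 : 3 ∈ π) (hp : p.Prime)
    (hpπ : p ∉ π) (h : IsPSLChar p S) : ¬ DB π S := by
  rcases Cfsg.Agent.H554.RV.pslChar_row h2 h3 hp hpπ h with ⟨F, _, _, _, -, ⟨e⟩⟩ | h
  · exact psl2_row h2 h3 hp hpπ e
  · exact h

end Cfsg.Agent.H574.RV
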